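import Cfsg.Agent.Lib.Solvable.PCore

/-!
An automorphism of order three of a group of order prime to three, fixing no involution.
-/

set_option autoImplicit false
set_option linter.unusedSectionVars false
set_option maxHeartbeats 1000000

namespace CfsgLib.Recog.FpfThree

universe u

variable {G : Type u} [Group G]

/-- The hypothesis on the automorphism. -/
structure Hyp (σ : MulAut G) : Prop where
  three : ∀ x, σ (σ (σ x)) = x
  cop : ¬ 3 ∣ Nat.card G
  invol : ∀ x, σ x = x → x * x = 1 → x = 1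

/-- Invariance of a subgroup. -/
def Inv (σ : MulAut G) (H : Subgroup G) : Prop := ∀ x ∈ H, σ x ∈ H

variable {σ : MulAut G} {H K : Subgroup G}

theorem Hyp.mem_iff (h : Hyp σ) (hH : Inv σ H) {x : G} : σ x ∈ H ↔ x ∈ H :=
  ⟨fun hx => h.three x ▸ hH _ (hH _ hx), hH x⟩

theorem inv_of_characteristic (N : Subgroup G) [hN : N.Characteristic] : Inv σ N := fun x hx => by
  have := Subgroup.characteristic_iff_map_eq.1 hN σ
  rw [← this]
  exact Subgroup.mem_map_of_mem _ hx

theorem Inv.inf (hH : Inv σ H) (hK : Inv σ K) : Inv σ (H ⊓ K) :=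
  fun x hx => ⟨hH x hx.1, hK x hx.2⟩

theorem Inv.sup (hH : Inv σ H) (hK : Inv σ K) : Inv σ (H ⊔ K) := by
  have : H ⊔ K ≤ (H ⊔ K).comap (σ : G →* G) :=
    sup_le (fun x hx => Subgroup.mem_comap.2 (Subgroup.mem_sup_left (hH x hx)))
      fun x hx => Subgroup.mem_comap.2 (Subgroup.mem_sup_right (hK x hx))
  exact fun x hx => this hx

theorem Hyp.inv_normalizer (h : Hyp σ) (hH : Inv σ H) :
    Inv σ (Subgroup.normalizer (H : Set G)) := fun x hx => by
  refine Subgroup.mem_normalizer_iff.2 fun y => ?_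
  obtain ⟨y, rfl⟩ : ∃ z, σ z = y := ⟨σ (σ y), h.three y⟩
  rw [h.mem_iff hH, ← map_inv, ← map_mul, ← map_mul, h.mem_iff hH]
  exact Subgroup.mem_normalizer_iff.1 hx y

theorem Hyp.inv_centralizer (h : Hyp σ) {S : Set G} (hS : ∀ x ∈ S, σ x ∈ S) :
    Inv σ (Subgroup.centralizer S) := fun x hx => by
  refine Subgroup.mem_centralizer_iff.2 fun y hy => ?_
  have h1 := Subgroup.mem_centralizer_iff.1 hx _ (hS _ (hS y hy))
  have h2 := congrArg σ h1
  rwa [map_mul, map_mul, h.three] at h2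

/-- The restriction to an invariant subgroup. -/
def resAut (h : Hyp σ) (hH : Inv σ H) : MulAut H where
  toFun x := ⟨σ x, hH x x.2⟩
  invFun x := ⟨σ (σ x), hH _ (hH x x.2)⟩
  left_inv x := Subtype.ext (h.three x)
  right_inv x := Subtype.ext (h.three x)
  map_mul' x y := Subtype.ext (map_mul σ _ _)

@[simp] theorem resAut_coe (h : Hyp σ) (hH : Inv σ H) (x : H) : (resAut h hH x : G) = σ x := rfl

theorem Hyp.restrict (h : Hyp σ) (hH : Inv σ H) : Hyp (resAut h hH) where
  three x := Subtype.ext (h.three x)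
  cop hd := h.cop (hd.trans H.card_subgroup_dvd_card)
  invol x hx hxx := Subtype.ext (h.invol x (congrArg Subtype.val hx) (congrArg Subtype.val hxx))

variable [Finite G]

/-- An invariant finite set of size prime to three has a fixed point. -/
theorem Hyp.exists_fixed (h : Hyp σ) {S : Set G} (hS : ∀ x ∈ S, σ x ∈ S)
    (hc : ¬ 3 ∣ Nat.card S) : ∃ x ∈ S, σ x = x := by
  have := Fintype.ofFinite S
  have : Fact (Nat.Prime 3) := ⟨Nat.prime_three⟩
  let f : Equiv.Perm S :=
    { toFun := fun x => ⟨σ x, hS x x.2⟩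
      invFun := fun x => ⟨σ (σ x), hS _ (hS x x.2)⟩
      left_inv := fun x => Subtype.ext (h.three x)
      right_inv := fun x => Subtype.ext (h.three x) }
  have hf : f ^ 3 ^ 1 = 1 := Equiv.ext fun x => Subtype.ext (by
    simp only [pow_one, pow_succ, pow_zero, one_mul, Equiv.Perm.mul_apply, Equiv.Perm.one_apply]
    exact h.three x)
  obtain ⟨a, ha⟩ := Equiv.Perm.exists_fixed_point_of_prime (α := S) (by rwa [← Nat.card_eq_fintype_card]) hf
  exact ⟨a, a.2, congrArg Subtype.val ha⟩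

/-- An element moved inside an invariant normal subgroup has a fixed representative. -/
theorem Hyp.exists_fixed_rep (h : Hyp σ) (N : Subgroup G) (hN : Inv σ N) {x : G}
    (hx : x⁻¹ * σ x ∈ N) : ∃ c, σ c = c ∧ x⁻¹ * c ∈ N := by
  have hcard : ¬ 3 ∣ Nat.card ({y | x⁻¹ * y ∈ N} : Set G) := fun hd => by
    have e : Nat.card ({y | x⁻¹ * y ∈ N} : Set G) = Nat.card N :=
      Nat.card_congr (Equiv.ofBijective (fun y => (⟨x⁻¹ * y, y.2⟩ : N))
        ⟨fun a b e => Subtype.ext (mul_left_cancel (congrArg Subtype.val e)),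
          fun n => ⟨⟨x * n, show x⁻¹ * (x * n) ∈ N by simp⟩,
            Subtype.ext (inv_mul_cancel_left x (n : G))⟩⟩)
    exact h.cop ((e ▸ hd).trans N.card_subgroup_dvd_card)
  obtain ⟨c, hc, hfix⟩ := h.exists_fixed (S := {y | x⁻¹ * y ∈ N}) (fun y hy => by
    show x⁻¹ * σ y ∈ N
    have : x⁻¹ * σ y = x⁻¹ * σ x * σ (x⁻¹ * y) := by rw [map_mul, map_inv]; group
    rw [this]
    exact mul_mem hx (hN _ hy)) hcard
  exact ⟨c, hfix, hc⟩

theorem Hyp.fixed_two_eq_one (h : Hyp σ) {x : G} (hx : σ x = x) {k : ℕ} (hk : x ^ 2 ^ k = 1) :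
    x = 1 := by
  induction k generalizing x with
  | zero => simpa using hk
  | succ k ih =>
    have h2 : x ^ 2 = 1 := ih (by rw [map_pow, hx]) (by rw [← pow_mul, ← pow_succ', hk])
    exact h.invol x hx (by rw [← pow_two, h2])

theorem Hyp.fpf_of_two (h : Hyp σ) (hP : IsPGroup 2 H) (hH : Inv σ H) (x : H)
    (hx : resAut h hH x = x) : x = 1 := by
  obtain ⟨k, hk⟩ := hP x
  exact Subtype.ext (h.fixed_two_eq_one (congrArg Subtype.val hx) (congrArg Subtype.val hk))

theorem Hyp.quotient (h : Hyp σ) (N : Subgroup G) [N.Normal] (τ : MulAut (G ⧸ N))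
    (hτ : ∀ x : G, τ x = σ x) : Hyp τ := by
  have hN : Inv σ N := fun x hx => by
    rw [← QuotientGroup.eq_one_iff, ← hτ, (QuotientGroup.eq_one_iff x).2 hx, map_one]
  refine ⟨fun q => ?_, fun hd => h.cop (hd.trans N.card_quotient_dvd_card), fun q hq hqq => ?_⟩
  · obtain ⟨x, rfl⟩ := QuotientGroup.mk_surjective q
    rw [hτ, hτ, hτ, h.three]
  · obtain ⟨x, rfl⟩ := QuotientGroup.mk_surjective q
    rw [hτ, eq_comm, QuotientGroup.eq] at hq
    obtain ⟨c, hc, hcN⟩ := h.exists_fixed_rep N hN hq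
    have e : ((c : G) : G ⧸ N) = x := (QuotientGroup.eq.2 hcN).symm
    obtain ⟨k, m, hm, hkm⟩ := Nat.exists_eq_two_pow_mul_odd (orderOf_pos c).ne'
    have h1 : c ^ m = 1 := h.fixed_two_eq_one (k := k) (by rw [map_pow, hc])
      (by rw [← pow_mul, mul_comm, ← hkm, pow_orderOf_eq_one])
    obtain ⟨j, rfl⟩ := hm
    have h2 : ((x : G ⧸ N)) ^ (2 * j + 1) = 1 := by
      rw [← e, ← QuotientGroup.mk_pow, h1, QuotientGroup.mk_one]
    rwa [pow_succ, pow_mul, pow_two, hqq, one_pow, one_mul] at h2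

/-- The induced automorphism of a quotient. -/
theorem Hyp.exists_quotAut (h : Hyp σ) (N : Subgroup G) [N.Normal] (hN : Inv σ N) :
    ∃ τ : MulAut (G ⧸ N), (∀ x : G, τ x = σ x) ∧ Hyp τ := by
  have hmap : N.map (σ : G →* G) = N := le_antisymm
    (Subgroup.map_le_iff_le_comap.2 fun x hx => hN x hx)
    fun x hx => ⟨σ (σ x), hN _ (hN x hx), h.three x⟩
  let τ : MulAut (G ⧸ N) := QuotientGroup.congr N N σ hmap
  exact ⟨τ, fun x => rfl, h.quotient N τ fun x => rfl⟩

/-- There is an invariant Sylow subgroup. -/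
theorem Hyp.exists_sylow (h : Hyp σ) (p : ℕ) [Fact p.Prime] :
    ∃ P : Sylow p G, Inv σ (P : Subgroup G) := by
  classical
  have := Fintype.ofFinite (Sylow p G)
  have : Fact (Nat.Prime 3) := ⟨Nat.prime_three⟩
  let img : Sylow p G → Sylow p G := fun P => P.mapSurjective (f := (σ : G →* G)) σ.surjective
  have himg : ∀ P, ((img P : Sylow p G) : Subgroup G) = (P : Subgroup G).map (σ : G →* G) :=
    fun P => rfl
  have h3 : ∀ P, img (img (img P)) = P := fun P => Sylow.ext <| by
    rw [himg, himg, himg, Subgroup.map_map, Subgroup.map_map]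
    conv_rhs => rw [← Subgroup.map_id (P : Subgroup G)]
    congr 1
    exact MonoidHom.ext fun x => h.three x
  let f : Equiv.Perm (Sylow p G) := ⟨img, fun P => img (img P), fun P => h3 P, fun P => h3 P⟩
  have hf : f ^ 3 ^ 1 = 1 := Equiv.ext fun P => by
    simp only [pow_one, pow_succ, pow_zero, one_mul, Equiv.Perm.mul_apply, Equiv.Perm.one_apply]
    exact h3 P
  obtain ⟨P, hP⟩ := Equiv.Perm.exists_fixed_point_of_prime (α := Sylow p G) (fun hd => by
    obtain ⟨P⟩ := (inferInstance : Nonempty (Sylow p G))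
    rw [← Nat.card_eq_fintype_card] at hd
    exact h.cop ((hd.trans P.card_dvd_index).trans (Subgroup.index_dvd_card _))) hf
  exact ⟨P, fun x hx => (congrArg (fun Q : Sylow p G => (Q : Subgroup G)) hP).le ⟨x, hx, rfl⟩⟩

end CfsgLib.Recog.FpfThree
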