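import Cfsg.Agent.Lib.Recog.FpfThree.Fusion
import Cfsg.Agent.Lib.Invol.BrauerSuzuki
import Cfsg.Agent.Lib.Invol.Isolated
import Cfsg.Agent.Lib.Recog.GenDihedral.Socle

/-!
Centralisers of central involutions in a minimal counterexample: `σ v` is isolated in `C(v)`.
-/

set_option autoImplicit false
set_option linter.unusedSectionVars false
set_option maxHeartbeats 1000000

namespace CfsgLib.Recog.FpfThree

open CfsgLib.Solvable
open scoped Pointwise

universe u

variable {G : Type u} [Group G] [Finite G] {σ : MulAut G} {P : Sylow 2 G}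

local notation "cen(" x ")" => Subgroup.centralizer ({x} : Set G)

/-- The involutions of the centre of a Sylow 2-subgroup, with the identity. -/
def omega (P : Sylow 2 G) : Subgroup G where
  carrier := {v | v ∈ (P : Subgroup G) ∧ (∀ p ∈ (P : Subgroup G), v * p = p * v) ∧ v * v = 1}
  one_mem' := ⟨one_mem _, fun p _ => by rw [one_mul, mul_one], one_mul 1⟩
  mul_mem' {a b} ha hb := by
    refine ⟨mul_mem ha.1 hb.1, fun p hp => ?_, ?_⟩
    · rw [mul_assoc, hb.2.1 p hp, ← mul_assoc, ha.2.1 p hp, mul_assoc]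
    · rw [mul_assoc, ← mul_assoc b, hb.2.1 a ha.1, mul_assoc a b, hb.2.2, mul_one, ha.2.2]
  inv_mem' {a} ha := by rw [inv_eq_of_mul_eq_one_right ha.2.2]; exact ha

theorem mem_omega {v : G} : v ∈ omega P ↔
    v ∈ (P : Subgroup G) ∧ (∀ p ∈ (P : Subgroup G), v * p = p * v) ∧ v * v = 1 := Iff.rfl

theorem le_cen_omega {v : G} (hv : v ∈ omega P) : (P : Subgroup G) ≤ cen(v) := fun p hp =>
  Subgroup.mem_centralizer_singleton_iff.2 (hv.2.1 p hp).symm

theorem orderOf_omega {v : G} (hv : v ∈ omega P) (h1 : v ≠ 1) : orderOf v = 2 :=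
  haveI : Fact (Nat.Prime 2) := ⟨Nat.prime_two⟩
  orderOf_eq_prime (by rw [pow_two]; exact hv.2.2) h1

/-- The product of the odd core and a normalised odd subgroup. -/
theorem le_oc_of_decomp {M Y U : Subgroup G} (hU : U ≤ M)
    (hdec : ∀ m ∈ M, ∃ k ∈ oc M, ∃ u ∈ U, m = k * u) (hY : Y ≤ M) (hodd : Odd (Nat.card Y))
    (hUY : U ≤ Subgroup.normalizer (Y : Set G)) : Y ≤ oc M := by
  have : Fact (Nat.Prime 2) := ⟨Nat.prime_two⟩
  set X := oc M ⊔ Y with hX
  have hYO : Y ≤ Subgroup.normalizer (oc M : Set G) := hY.trans (le_normalizer_oc M)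
  have hmul : (X : Set G) = (oc M : Set G) * (Y : Set G) :=
    Subgroup.coe_mul_of_right_le_normalizer_left _ _ hYO
  have hconj : ∀ m ∈ M, ∀ x ∈ X, m * x * m⁻¹ ∈ X := by
    intro m hm x hx
    rw [← SetLike.mem_coe, hmul] at hx
    obtain ⟨o, ho, y, hy, rfl⟩ := hx
    obtain ⟨k, hk, u, hu, rfl⟩ := hdec m hm
    have e : k * u * (o * y) * (k * u)⁻¹ =
        (k * (u * o * u⁻¹)) * (u * y * u⁻¹) * k⁻¹ := by group
    rw [e]
    refine mul_mem (mul_mem (mul_mem ?_ ?_) ?_) ?_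
    · exact Subgroup.mem_sup_left hk
    · exact Subgroup.mem_sup_left ((Subgroup.mem_normalizer_iff.1 (le_normalizer_oc M (hU hu)) o).1 ho)
    · exact Subgroup.mem_sup_right ((Subgroup.mem_normalizer_iff.1 (hUY hu) y).1 hy)
    · exact Subgroup.mem_sup_left (inv_mem hk)
  have hn : M ≤ Subgroup.normalizer (X : Set G) := fun m hm => Subgroup.mem_normalizer_iff.2
    fun x => ⟨hconj m hm x, fun hx => by
      have := hconj m⁻¹ (inv_mem hm) _ hx
      rwa [inv_inv, show m⁻¹ * (m * x * m⁻¹) * m = x by group] at this⟩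
  refine le_sup_right.trans (le_oc (sup_le (oc_le M) hY) hn ?_)
  rw [← Nat.not_even_iff_odd, even_iff_two_dvd]
  intro hd
  obtain ⟨⟨x, hxX⟩, hx⟩ := exists_prime_orderOf_dvd_card' 2 hd
  rw [Subgroup.orderOf_mk] at hx
  have hx2 : x * x = 1 := by rw [← pow_two, ← hx, pow_orderOf_eq_one]
  rw [← SetLike.mem_coe, hmul] at hxX
  obtain ⟨o, ho, y, hy, rfl⟩ := hxX
  change orderOf (o * y) = 2 at hx
  change o * y * (o * y) = 1 at hx2
  have hyy : y * y ∈ oc M := by
    have e : y * y = (y * o * y⁻¹)⁻¹ * (o⁻¹ * (o * y * (o * y))) := by group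
    rw [e, hx2, mul_one]
    exact mul_mem (inv_mem ((Subgroup.mem_normalizer_iff.1 (hYO hy) o).1 ho)) (inv_mem ho)
  obtain ⟨j, hj⟩ := hodd.of_dvd_nat (Subgroup.orderOf_dvd_natCard Y hy)
  have hyO : y ∈ oc M := by
    have e : (y * y) ^ (j + 1) = y := by
      rw [← pow_two, ← pow_mul, show 2 * (j + 1) = orderOf y + 1 by omega, pow_succ,
        pow_orderOf_eq_one, one_mul]
    exact e ▸ pow_mem hyy _
  have := (odd_oc M).of_dvd_nat (Subgroup.orderOf_dvd_natCard _ (mul_mem ho hyO))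
  rw [hx] at this
  exact absurd this (by decide)

theorem Hyp.inv_omega (h : Hyp σ) (hP : Inv σ (P : Subgroup G)) : Inv σ (omega P) := by
  intro v hv
  refine ⟨hP v hv.1, fun p hp => ?_, by rw [← map_mul, hv.2.2, map_one]⟩
  obtain ⟨q, rfl⟩ : ∃ q, σ q = p := ⟨σ (σ p), h.three p⟩
  rw [← map_mul, ← map_mul, hv.2.1 q ((h.mem_iff hP).1 hp)]

theorem Hyp.norm_omega (h : Hyp σ) (hP : Inv σ (P : Subgroup G)) {v : G} (hv : v ∈ omega P) :
    v * σ v * σ (σ v) = 1 :=
  congrArg Subtype.val (CfsgLib.Invol.fpf_three_norm (T := (P : Subgroup G))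
    (resAut h hP) (h.restrict hP).three (fun x hx => h.fpf_of_two P.2 hP x hx) ⟨v, hv.1⟩)

theorem Min.eq_bot_of_normal_odd (hm : Min σ) {N : Subgroup G} [N.Normal] (hN : Inv σ N)
    (ho : Odd (Nat.card N)) : N = ⊥ := by
  refine (hm.simple N inferInstance hN).resolve_right fun e => hm.ns ?_
  rw [e, Subgroup.card_top] at ho
  exact CfsgLib.FT.odd_order_solvable ho

theorem Min.not_mem_center (hm : Min σ) {v : G} (h1 : v ≠ 1) : v ∉ Subgroup.center G := fun hv => by
  rcases hm.simple _ inferInstance (inv_of_characteristic (Subgroup.center G)) with h | h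
  · exact h1 (Subgroup.mem_bot.1 (h ▸ hv))
  · exact hm.ns (Group.isSolvable_of_comm fun a b =>
      Subgroup.mem_center_iff.1 (h ▸ Subgroup.mem_top b) a)

/-- Conjugates of central involutions in the Sylow subgroup. -/
theorem Min.omega_conj (hm : Min σ) (hP : Inv σ (P : Subgroup G)) {v g : G} (hv : v ∈ omega P)
    (hg : g * v * g⁻¹ ∈ (P : Subgroup G)) :
    g * v * g⁻¹ ∈ omega P ∧ ∃ c, σ c = c ∧ g * v * g⁻¹ = c * v * c⁻¹ := by
  obtain ⟨n, hn, e⟩ := hm.fusion P hP {v} (Set.singleton_subset_iff.2 hv.1) g⁻¹ (by rintro x rfl; rwa [inv_inv])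
  have e' : g * v * g⁻¹ = n⁻¹ * v * n⁻¹⁻¹ := by simpa using e v rfl
  have := hm.solvable_normalizer hP
  obtain ⟨c, hc, hcv⟩ := hm.hyp.exists_fixed_conj P hP (inv_mem hn)
  refine ⟨?_, c, hc, e'.trans (hcv v hv.2.1 hv.1)⟩
  rw [e']
  set m := n⁻¹
  have hm' : m ∈ Subgroup.normalizer ((P : Subgroup G) : Set G) := inv_mem hn
  refine ⟨(Subgroup.mem_normalizer_iff.1 hm' v).1 hv.1, fun p hp => ?_, ?_⟩
  · have hq : m⁻¹ * p * m ∈ (P : Subgroup G) :=
      (Subgroup.mem_normalizer_iff.1 hm' _).2 (by simpa [mul_assoc] using hp)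
    calc m * v * m⁻¹ * p = m * (v * (m⁻¹ * p * m)) * m⁻¹ := by group
      _ = m * ((m⁻¹ * p * m) * v) * m⁻¹ := by rw [hv.2.1 _ hq]
      _ = p * (m * v * m⁻¹) := by group
  · calc m * v * m⁻¹ * (m * v * m⁻¹) = m * (v * v) * m⁻¹ := by group
      _ = 1 := by rw [hv.2.2, mul_one, mul_inv_cancel]

/-- The three images of an involution are pairwise not conjugate. -/
theorem Min.not_conj (hm : Min σ) (hP : Inv σ (P : Subgroup G)) {v : G} (hv : v ∈ omega P)
    (h1 : v ≠ 1) (g : G) : g * v * g⁻¹ ≠ σ v ∧ g * v * g⁻¹ ≠ σ (σ v) := by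
  have h := hm.hyp
  have key : ∀ c, σ c = c → c ^ 3 * v * (c ^ 3)⁻¹ = v → c * v * c⁻¹ = v := by
    intro c _ e
    have e' : c ^ 3 * v = v * c ^ 3 := mul_inv_eq_iff_eq_mul.1 e
    obtain ⟨j, hj⟩ := exists_pow_eq_self_of_coprime (x := c) (n := 3)
      ((Nat.prime_three.coprime_iff_not_dvd).2 fun hd => h.cop (hd.trans (orderOf_dvd_natCard c)))
    have : Commute ((c ^ 3) ^ j) v := (show Commute (c ^ 3) v from e').pow_left j
    rw [hj] at this
    rw [this.eq, mul_inv_cancel_right]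
  have hvv : ∀ w, σ w = w → w ∈ omega P → w = 1 := fun w hw hwo => h.invol w hw hwo.2.2
  constructor <;> intro e <;> apply h1
  · obtain ⟨-, c, hc, hce⟩ := hm.omega_conj hP hv (e ▸ (h.inv_omega hP v hv).1)
    have ev : c * v * c⁻¹ = σ v := hce.symm.trans e
    have e1 := congrArg σ ev
    rw [map_mul, map_mul, map_inv, hc] at e1
    have e2 := congrArg σ e1
    rw [map_mul, map_mul, map_inv, hc, h.three] at e2
    have hf := key c hc (by
      calc c ^ 3 * v * (c ^ 3)⁻¹ = c * (c * (c * v * c⁻¹) * c⁻¹) * c⁻¹ := by rw [pow_three]; group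
        _ = v := by rw [ev, e1, e2])
    exact hvv v (ev.symm.trans hf) hv
  · obtain ⟨-, c, hc, hce⟩ := hm.omega_conj hP hv
      (e ▸ (h.inv_omega hP _ (h.inv_omega hP v hv)).1)
    have ev : c * v * c⁻¹ = σ (σ v) := hce.symm.trans e
    have e1 := congrArg σ ev
    rw [map_mul, map_mul, map_inv, hc, h.three] at e1
    have e2 := congrArg σ e1
    rw [map_mul, map_mul, map_inv, hc] at e2
    have hf := key c hc (by
      calc c ^ 3 * v * (c ^ 3)⁻¹ = c * (c * (c * v * c⁻¹) * c⁻¹) * c⁻¹ := by rw [pow_three]; group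
        _ = v := by rw [ev, e2, e1])
    refine hvv v ?_ hv
    have := congrArg σ (ev.symm.trans hf)
    rw [h.three] at this
    exact this.symm

/-- `C(v) = O(C(v)) N_{C(v)}(P)`, and it is solvable. -/
theorem Min.centralizer_omega (hm : Min σ) (hP : Inv σ (P : Subgroup G)) {v : G} (hv : v ∈ omega P)
    (h1 : v ≠ 1) : Group.IsSolvable cen(v) ∧ ∀ x ∈ cen(v), ∃ k ∈ oc cen(v),
      ∃ n ∈ Subgroup.normalizer ((P : Subgroup G) : Set G), n ∈ cen(v) ∧ x = k * n := by
  have : Fact (Nat.Prime 2) := ⟨Nat.prime_two⟩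
  have h := hm.hyp
  set C := cen(v) with hC
  set b := σ v with hb
  have hbo : b ∈ omega P := h.inv_omega hP v hv
  have hb1 : b ≠ 1 := fun e => h1 (σ.injective (by rw [map_one]; exact e))
  have hPC : (P : Subgroup G) ≤ C := le_cen_omega hv
  have hbC : b ∈ C := Subgroup.mem_centralizer_singleton_iff.2 (hv.2.1 b hbo.1).symm
  have := hm.solvable_normalizer hP
  have hiso : Cfsg.IsIsolatedInvolution (⟨b, hbC⟩ : C) := by
    refine CfsgLib.Invol.isolated_of_sylow (P.subtype hPC)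
      (by rw [Subgroup.orderOf_mk]; exact orderOf_omega hbo hb1) hbo.1 fun g hg => ?_
    have hg' : (g : G) * b * (g : G)⁻¹ ∈ (P : Subgroup G) := hg
    have hgv : (g : G) * v * (g : G)⁻¹ = v := by
      rw [Subgroup.mem_centralizer_singleton_iff.1 g.2, mul_inv_cancel_right]
    obtain ⟨n, hn, e⟩ := hm.fusion P hP {v, b}
      (by rintro x (rfl | rfl); exacts [hv.1, hbo.1]) (g : G)⁻¹
      (by rintro x (rfl | rfl)
          · rw [inv_inv, hgv]; exact hv.1
          · rw [inv_inv]; exact hg')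
    have ev := e v (Or.inl rfl)
    have eb := e b (Or.inr rfl)
    rw [inv_inv, hgv] at ev
    rw [inv_inv] at eb
    obtain ⟨c, hc, hcv⟩ := h.exists_fixed_conj P hP (inv_mem hn)
    have hcvv : c * v * c⁻¹ = v := by
      rw [← hcv v hv.2.1 hv.1, inv_inv]; exact ev.symm
    have hcb : c * b * c⁻¹ = b := by
      have := congrArg σ hcvv
      rwa [map_mul, map_mul, map_inv, hc] at this
    refine Subtype.ext ?_
    show (g : G) * b * (g : G)⁻¹ = b
    rw [eb]
    have := hcv b hbo.2.1 hbo.1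
    rw [inv_inv] at this
    rw [this, hcb]
  -- the fixed four-group centraliser
  set U : Subgroup G := C ⊓ cen(b)
  have hUi : Inv σ U := by
    intro x hx
    have hxv : x * v = v * x := Subgroup.mem_centralizer_singleton_iff.1 hx.1
    have hxb : x * b = b * x := Subgroup.mem_centralizer_singleton_iff.1 hx.2
    have h1 : Commute (σ x) b := by
      show σ x * σ v = σ v * σ x
      rw [← map_mul, ← map_mul, hxv]
    have h2 : Commute (σ x) (σ b) := by
      show σ x * σ b = σ b * σ x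
      rw [← map_mul, ← map_mul, hxb]
    refine ⟨Subgroup.mem_centralizer_singleton_iff.2 ?_,
      Subgroup.mem_centralizer_singleton_iff.2 h1.eq⟩
    have e : v = (b * σ b)⁻¹ := eq_inv_of_mul_eq_one_left (by
      rw [← mul_assoc]; exact h.norm_omega hP hv)
    rw [e]
    exact ((h1.mul_right h2).inv_right).eq
  have hUne : U ≠ ⊤ := fun e => hm.not_mem_center h1 (Subgroup.mem_center_iff.2 fun x =>
    Subgroup.mem_centralizer_singleton_iff.1 (e ▸ Subgroup.mem_top x : x ∈ U).1)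
  have := hm.loc U hUi hUne
  set O := oc C
  have hdecU : ∀ x ∈ C, ∃ k ∈ O, ∃ u ∈ U, x = k * u := by
    intro x hx
    have hOn : (Cfsg.pPrimeCore 2 C).Normal := pPrimeCore_normal 2 _
    have hOodd : Odd (Nat.card (Cfsg.pPrimeCore 2 C)) := by
      rw [← Nat.coprime_two_right]; exact pPrimeCore_coprime 2
    have hz := inv_mem (CfsgLib.Invol.zstar C hiso ⟨x, hx⟩)
    have hz' : (⟨x, hx⟩ : C) * ⟨b, hbC⟩ * (⟨x, hx⟩ : C)⁻¹ * (⟨b, hbC⟩ : C)⁻¹ ∈
        Cfsg.pPrimeCore 2 C := by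
      have e : ((⟨b, hbC⟩ : C) * ⟨x, hx⟩ * (⟨b, hbC⟩ : C)⁻¹ * (⟨x, hx⟩ : C)⁻¹)⁻¹ =
          (⟨x, hx⟩ : C) * ⟨b, hbC⟩ * (⟨x, hx⟩ : C)⁻¹ * (⟨b, hbC⟩ : C)⁻¹ := by group
      rw [e] at hz
      exact hz
    obtain ⟨k, hk, hku⟩ := CfsgLib.Recog.GenDihedral.lift_centralizer hOodd hiso.1 hz'
    refine ⟨(k : G)⁻¹, inv_mem ⟨k, hk, rfl⟩, k * x, ⟨mul_mem k.2 hx, ?_⟩,
      (inv_mul_cancel_left _ _).symm⟩
    exact Subgroup.mem_centralizer_singleton_iff.2
      (congrArg Subtype.val (Subgroup.mem_centralizer_singleton_iff.1 hku))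
  have hsolv : Group.IsSolvable C := by
    have hOn : (Cfsg.pPrimeCore 2 C).Normal := pPrimeCore_normal 2 _
    refine CfsgLib.Invol.MetacyclicTwo.solvable_of_extension (Cfsg.pPrimeCore 2 C)
      (CfsgLib.FT.odd_order_solvable (by
        rw [← Nat.coprime_two_right]; exact pPrimeCore_coprime 2)) ?_
    refine Group.isSolvable_of_surjective (G := U)
      (f := (QuotientGroup.mk' (Cfsg.pPrimeCore 2 C)).comp (Subgroup.inclusion inf_le_left)) ?_
    intro q
    obtain ⟨⟨x, hx⟩, rfl⟩ := QuotientGroup.mk'_surjective _ q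
    obtain ⟨k, ⟨k', hk', rfl⟩, u, hu, e⟩ := hdecU x hx
    refine ⟨⟨u, hu⟩, ?_⟩
    rw [show (⟨x, hx⟩ : C) = k' * ⟨u, hu.1⟩ from Subtype.ext e, map_mul,
      show QuotientGroup.mk' _ k' = 1 from (QuotientGroup.eq_one_iff k').2 hk', one_mul]
    rfl
  refine ⟨hsolv, fun x hx => ?_⟩
  obtain ⟨k, hk, u, hu, rfl⟩ := hdecU x hx
  have hPU : (P : Subgroup G) ≤ U := le_inf hPC (le_cen_omega hbo)
  obtain ⟨k', hk', n, hn, hnU, rfl⟩ := h.frattini hUi P hPU hu
  refine ⟨k * k', mul_mem hk ?_, n, hn, hnU.1, by group⟩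
  exact le_oc_of_decomp (U := U) inf_le_left hdecU ((oc_le U).trans inf_le_left) (odd_oc U)
    (le_normalizer_oc U) hk'

end CfsgLib.Recog.FpfThree
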