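import Cfsg.Agent.Lib.Recog.FpfThree.Local
import Cfsg.Agent.Lib.PLocal.CentricRefine
import Cfsg.Agent.Lib.FT.OddOrder

/-!
In a minimal counterexample fusion in a Sylow 2-subgroup is controlled by its normaliser.
-/

set_option autoImplicit false
set_option linter.unusedSectionVars false
set_option maxHeartbeats 1000000

namespace CfsgLib.Recog.FpfThree

open CfsgLib.Solvable
open scoped commutatorElement

universe u

/-- A minimal counterexample. -/
structure Min {G : Type u} [Group G] (σ : MulAut G) : Prop where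
  hyp : Hyp σ
  ns : ¬ Group.IsSolvable G
  loc : ∀ M : Subgroup G, Inv σ M → M ≠ ⊤ → Group.IsSolvable M
  simple : ∀ N : Subgroup G, N.Normal → Inv σ N → N = ⊥ ∨ N = ⊤

variable {G : Type u} [Group G] [Finite G] {σ : MulAut G} {P : Sylow 2 G}

/-- Commutators in an invariant 2-subgroup are central. -/
theorem Hyp.comm_central (h : Hyp σ) {H : Subgroup G} (hH : IsPGroup 2 H) (hHi : Inv σ H) {a b p : G}
    (ha : a ∈ H) (hb : b ∈ H) (hp : p ∈ H) :
    a * b * a⁻¹ * b⁻¹ * p = p * (a * b * a⁻¹ * b⁻¹) := by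
  have := CfsgLib.Invol.class_two_of_fpf_three _ (T := H) rfl hH (resAut h hHi)
    (h.restrict hHi).three (fun x hx => h.fpf_of_two hH hHi x hx) ⟨a, ha⟩ ⟨b, hb⟩ ⟨p, hp⟩
  simpa [commutatorElement_def] using congrArg Subtype.val this.eq

/-- Centralisers inside an invariant 2-group are invariant. -/
theorem Hyp.comm_image (h : Hyp σ) {H : Subgroup G} (hH : IsPGroup 2 H) (hHi : Inv σ H) {a b : G}
    (ha : a ∈ H) (hb : b ∈ H) (hab : a * b = b * a) : σ a * b = b * σ a := by
  set s := resAut h hHi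
  have h3 := (h.restrict hHi).three
  have hf : ∀ x : H, s x = x → x = 1 := fun x hx => h.fpf_of_two hH hHi x hx
  have hcen : ∀ x y g : H, Commute ⁅x, y⁆ g :=
    CfsgLib.Invol.class_two_of_fpf_three _ rfl hH s h3 hf
  have hL : ∀ x x' y : H, ⁅x * x', y⁆ = ⁅x, y⁆ * ⁅x', y⁆ := fun x x' y =>
    CfsgLib.Invol.commutator_mul_left_of_central (hcen x' y)
  have hR : ∀ x y y' : H, ⁅x, y * y'⁆ = ⁅x, y⁆ * ⁅x, y'⁆ := fun x y y' =>
    CfsgLib.Invol.commutator_mul_right_of_central (hcen x y')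
  have h0 : ∀ x : H, ⁅x, s x⁆ = 1 := fun x =>
    commutatorElement_eq_one_iff_commute.2 (CfsgLib.Invol.fpf_three_commute s h3 hf x)
  have hlin : ∀ x y : H, ⁅x, s y⁆ = ⁅s x, y⁆ := fun x y => by
    have e := h0 (x * y)
    rw [map_mul, hL, hR, hR, h0, h0, one_mul, mul_one] at e
    rw [eq_inv_of_mul_eq_one_left e, commutatorElement_inv]
  set A : H := ⟨a, ha⟩
  set B : H := ⟨b, hb⟩
  have hAB : ⁅A, B⁆ = 1 := commutatorElement_eq_one_iff_mul_comm.2 (Subtype.ext hab)
  have hsAB : ⁅s A, s B⁆ = 1 := by rw [← map_commutatorElement, hAB, map_one]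
  have hsum : ⁅s A, B⁆ * ⁅s A, s (s B)⁆ = 1 := by
    have e : ⁅s A, B * s B * s (s B)⁆ = 1 := by
      rw [CfsgLib.Invol.fpf_three_norm s h3 hf B, commutatorElement_one_right]
    rwa [hR, hR, hsAB, mul_one] at e
  have h2 : ⁅s A, s (s B)⁆ = s ⁅s A, B⁆ := by rw [← map_commutatorElement, hlin A B]
  rw [h2] at hsum
  set x := ⁅s A, B⁆
  have hx1 : s x = x⁻¹ := eq_inv_of_mul_eq_one_right hsum
  have hx2 : s x = x := by
    have e := h3 x
    rw [hx1, map_inv, hx1, inv_inv] at e
    exact e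
  exact congrArg Subtype.val (commutatorElement_eq_one_iff_mul_comm.1 (hf x hx2))

theorem Min.normalizer_ne_top (hm : Min σ) {Z : Subgroup G} (hZ : Inv σ Z) (hZ2 : IsPGroup 2 Z)
    (hne : Z ≠ ⊥) : Subgroup.normalizer (Z : Set G) ≠ ⊤ := fun e => by
  have : Fact (Nat.Prime 2) := ⟨Nat.prime_two⟩
  rcases hm.simple Z (Subgroup.normalizer_eq_top_iff.1 e) hZ with h | h
  · exact hne h
  · have hG : IsPGroup 2 G := by
      have := hZ2
      rw [h] at this
      exact this.of_equiv Subgroup.topEquiv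
    have := hG.isNilpotent
    exact hm.ns inferInstance

theorem Min.sylow_ne_bot (hm : Min σ) (P : Sylow 2 G) : (P : Subgroup G) ≠ ⊥ := fun e => by
  have : Fact (Nat.Prime 2) := ⟨Nat.prime_two⟩
  refine hm.ns (CfsgLib.FT.odd_order_solvable ?_)
  rw [← Nat.not_even_iff_odd, even_iff_two_dvd]
  intro hd
  have := P.not_dvd_index
  rw [e, Subgroup.index_bot] at this
  exact this hd

theorem Min.solvable_normalizer (hm : Min σ) (hP : Inv σ (P : Subgroup G)) :
    Group.IsSolvable (Subgroup.normalizer ((P : Subgroup G) : Set G)) :=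
  hm.loc _ (hm.hyp.inv_normalizer hP) (hm.normalizer_ne_top hP P.2 (hm.sylow_ne_bot P))

/-- **Fusion.** -/
theorem Min.fusion (hm : Min σ) (P : Sylow 2 G) (hP : Inv σ (P : Subgroup G)) (A : Set G)
    (hA : A ⊆ (P : Subgroup G)) (g : G) (hAg : ∀ a ∈ A, g⁻¹ * a * g ∈ (P : Subgroup G)) :
    ∃ n ∈ Subgroup.normalizer ((P : Subgroup G) : Set G), ∀ a ∈ A,
      g⁻¹ * a * g = n⁻¹ * a * n := by
  have : Fact (Nat.Prime 2) := ⟨Nat.prime_two⟩
  have h := hm.hyp
  have hchain := CfsgLib.PLocal.mchain_good P A g hA (by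
    rintro _ ⟨a, ha, rfl⟩; exact hAg a ha)
  obtain ⟨c, hc, hr⟩ := hchain
  suffices H : ∀ (B : Set G) (r : G), CfsgLib.PLocal.RChain {U | U ≤ (P : Subgroup G) ∧
      ¬ 2 ∣ ((P : Subgroup G) ⊓ Subgroup.normalizer (U : Set G)).relIndex (Subgroup.normalizer (U : Set G)) ∧
      CfsgLib.PLocal.IsGoodLocal 2 U} B r → B ⊆ (P : Subgroup G) →
      ∃ n ∈ Subgroup.normalizer ((P : Subgroup G) : Set G), ∀ a ∈ B, r⁻¹ * a * r = n⁻¹ * a * n by
    obtain ⟨n, hn, e⟩ := H A _ hr hA
    refine ⟨n, hn, fun a ha => ?_⟩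
    rw [← e a ha]
    have hca := Subgroup.mem_centralizer_iff.1 hc a ha
    calc g⁻¹ * a * g = g⁻¹ * (a * c) * (c⁻¹ * g) := by group
      _ = g⁻¹ * (c * a) * (c⁻¹ * g) := by rw [hca]
      _ = _ := by group
  intro B r hr
  induction hr with
  | nil B => exact fun _ => ⟨1, one_mem _, fun a _ => rfl⟩
  | @step B T x r hT hx hBT _ ih =>
    intro hB
    obtain ⟨hTP, -, hgood⟩ := hT
    -- the centraliser of `T` in `P`
    set Z : Subgroup G := (P : Subgroup G) ⊓ Subgroup.centralizer (T : Set G) with hZ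
    have hZT : Z ≤ T := by
      intro z hz
      obtain ⟨hcen, hdp⟩ := hgood
      have h1 := hcen hz.2
      obtain ⟨-, -, hcomm, -, hsup⟩ := hdp
      set O1 := (Cfsg.pPrimeCore 2 ↥(Subgroup.normalizer (T : Set G))).map
        (Subgroup.normalizer (T : Set G)).subtype
      rw [← hsup] at h1
      have hTO : O1 ≤ Subgroup.normalizer (T : Set G) := Subgroup.map_subtype_le _
      have hTn : T ≤ Subgroup.normalizer (O1 : Set G) := fun t ht =>
        Subgroup.mem_normalizer_iff.2 fun o => by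
          constructor
          · intro ho; rwa [← hcomm o ho t ht, mul_inv_cancel_right]
          · intro ho
            have e : o = t * o * t⁻¹ := by
              calc o = t⁻¹ * ((t * o * t⁻¹) * t) := by group
                _ = t⁻¹ * (t * (t * o * t⁻¹)) := by rw [hcomm _ ho t ht]
                _ = t * o * t⁻¹ := by group
            rwa [← e] at ho
      rw [← SetLike.mem_coe, Subgroup.coe_mul_of_right_le_normalizer_left _ _ hTn] at h1
      obtain ⟨k, hk, t, ht, e⟩ := h1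
      change k * t = z at e
      have hk1 : k = 1 := by
        have ho : Odd (Nat.card (oc (Subgroup.normalizer (T : Set G)))) := odd_oc _
        refine eq_one_of_two_odd P.2 ho ?_ hk
        rw [show k = z * t⁻¹ by rw [← e, mul_inv_cancel_right]]
        exact mul_mem hz.1 (inv_mem (hTP ht))
      rw [← e, hk1, one_mul]
      exact ht
    have hZi : Inv σ Z := fun z hz => ⟨hP z hz.1, Subgroup.mem_centralizer_iff.2 fun t ht =>
      (h.comm_image P.2 hP hz.1 (hTP ht) (Subgroup.mem_centralizer_iff.1 hz.2 t ht).symm).symm⟩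
    have hPZ : (P : Subgroup G) ≤ Subgroup.normalizer (Z : Set G) := by
      have key : ∀ p ∈ (P : Subgroup G), ∀ z ∈ Z, p * z * p⁻¹ ∈ Z := by
        intro p hp z hz
        refine ⟨((P : Subgroup G).mul_mem ((P : Subgroup G).mul_mem hp hz.1) ((P : Subgroup G).inv_mem hp) :), Subgroup.mem_centralizer_iff.2 fun t ht => ?_⟩
        have hcc := h.comm_central P.2 hP hp hz.1 (hTP ht)
        have hzt := Subgroup.mem_centralizer_iff.1 hz.2 t ht
        calc t * (p * z * p⁻¹) = t * (p * z * p⁻¹ * z⁻¹) * z := by group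
          _ = (p * z * p⁻¹ * z⁻¹) * t * z := by rw [hcc]
          _ = (p * z * p⁻¹ * z⁻¹) * (t * z) := by group
          _ = (p * z * p⁻¹ * z⁻¹) * (z * t) := by rw [hzt]
          _ = p * z * p⁻¹ * t := by group
      intro p hp
      refine Subgroup.mem_normalizer_iff.2 fun z => ⟨key p hp z, fun hz => ?_⟩
      have := key p⁻¹ (inv_mem hp) _ hz
      rwa [inv_inv, show p⁻¹ * (p * z * p⁻¹) * p = z by group] at this
    have hZne : Z ≠ ⊥ := by
      intro e
      have hne : Nontrivial (P : Subgroup G) :=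
        (Subgroup.nontrivial_iff_ne_bot _).2 (hm.sylow_ne_bot P)
      have := P.2.center_nontrivial
      obtain ⟨w, hw⟩ := exists_ne (1 : Subgroup.center (P : Subgroup G))
      refine hw (Subtype.ext (Subtype.ext ?_))
      have hwZ : ((w : (P : Subgroup G)) : G) ∈ Z := ⟨(w : (P : Subgroup G)).2,
        Subgroup.mem_centralizer_iff.2 fun t ht =>
          congrArg Subtype.val (Subgroup.mem_center_iff.1 w.2 ⟨t, hTP ht⟩)⟩
      exact Subgroup.mem_bot.1 (e ▸ hwZ)
    have hxZ : x ∈ Subgroup.normalizer (Z : Set G) := by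
      have key : ∀ y ∈ Subgroup.normalizer (T : Set G), ∀ z ∈ Z, y * z * y⁻¹ ∈ Z := by
        intro y hy z hz
        refine ⟨hTP ((Subgroup.mem_normalizer_iff.1 hy z).1 (hZT hz)),
          Subgroup.mem_centralizer_iff.2 fun t ht => ?_⟩
        have h1 : y⁻¹ * t * y ∈ T := by
          have := (Subgroup.mem_normalizer_iff.1 hy (y⁻¹ * t * y)).2
          exact this (by simpa [mul_assoc] using ht)
        have h2 := Subgroup.mem_centralizer_iff.1 hz.2 _ h1
        calc t * (y * z * y⁻¹) = y * ((y⁻¹ * t * y) * z) * y⁻¹ := by group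
          _ = y * (z * (y⁻¹ * t * y)) * y⁻¹ := by rw [h2]
          _ = y * z * y⁻¹ * t := by group
      refine Subgroup.mem_normalizer_iff.2 fun z => ⟨key x hx z, fun hz => ?_⟩
      have := key x⁻¹ (inv_mem hx) _ hz
      rwa [inv_inv, show x⁻¹ * (x * z * x⁻¹) * x = z by group] at this
    have := hm.loc _ (h.inv_normalizer hZi)
      (hm.normalizer_ne_top hZi (P.2.to_le inf_le_left) hZne)
    obtain ⟨k, hk, n, hn, hnM, e⟩ := h.frattini (h.inv_normalizer hZi) P hPZ hxZ
    have hkey : ∀ t ∈ T, x⁻¹ * t * x = n⁻¹ * t * n := by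
      intro t ht
      have h1 : x⁻¹ * t * x ∈ (P : Subgroup G) :=
        hTP ((Subgroup.mem_normalizer_iff.1 hx _).2 (by simpa [mul_assoc] using ht))
      have h2 : k⁻¹ * t * k * t⁻¹ ∈ (P : Subgroup G) := by
        refine mul_mem ?_ (inv_mem (hTP ht))
        rw [show k⁻¹ * t * k = n * (x⁻¹ * t * x) * n⁻¹ by rw [e]; group]
        exact (Subgroup.mem_normalizer_iff.1 hn _).1 h1
      have h3 : k⁻¹ * t * k * t⁻¹ ∈ oc (Subgroup.normalizer (Z : Set G)) := by
        rw [show k⁻¹ * t * k * t⁻¹ = k⁻¹ * (t * k * t⁻¹) by group]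
        exact mul_mem (inv_mem hk)
          ((Subgroup.mem_normalizer_iff.1 (le_normalizer_oc _ (hPZ (hTP ht))) k).1 hk)
      have h4 : k⁻¹ * t * k = t :=
        mul_inv_eq_one.1 (eq_one_of_two_odd P.2 (odd_oc _) h2 h3)
      calc x⁻¹ * t * x = n⁻¹ * (k⁻¹ * t * k) * n := by rw [e]; group
        _ = n⁻¹ * t * n := by rw [h4]
    obtain ⟨m, hmN, hme⟩ := ih (by
      rintro _ ⟨a, ha, rfl⟩
      exact hTP ((Subgroup.mem_normalizer_iff.1 hx _).2 (by
        simpa [mul_assoc] using (hBT ha))))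
    refine ⟨n * m, mul_mem hn hmN, fun a ha => ?_⟩
    calc (x * r)⁻¹ * a * (x * r) = r⁻¹ * (x⁻¹ * a * x) * r := by group
      _ = m⁻¹ * (x⁻¹ * a * x) * m := hme _ ⟨a, ha, rfl⟩
      _ = m⁻¹ * (n⁻¹ * a * n) * m := by rw [hkey a (hBT ha)]
      _ = (n * m)⁻¹ * a * (n * m) := by group

end CfsgLib.Recog.FpfThree
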