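import Cfsg.Agent.Lib.Recog.FpfThree.Solvable

/-!
Invariant solvable subgroups containing a Sylow 2-subgroup.
-/

set_option autoImplicit false
set_option linter.unusedSectionVars false
set_option maxHeartbeats 1000000

namespace CfsgLib.Recog.FpfThree

open CfsgLib.Solvable

universe u

variable {G : Type u} [Group G] [Finite G] {σ : MulAut G} {M : Subgroup G}

/-- The odd core of a subgroup, inside the whole group. -/
def oc (M : Subgroup G) : Subgroup G := (Cfsg.pPrimeCore 2 M).map M.subtype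

theorem oc_le (M : Subgroup G) : oc M ≤ M := Subgroup.map_subtype_le _

theorem odd_oc (M : Subgroup G) : Odd (Nat.card (oc M)) := by
  rw [oc, card_map_subtype, ← Nat.coprime_two_right]
  exact pPrimeCore_coprime 2

theorem le_normalizer_oc (M : Subgroup G) : M ≤ Subgroup.normalizer (oc M : Set G) := by
  have hn := pPrimeCore_normal 2 M
  intro m hm
  refine Subgroup.mem_normalizer_iff.2 fun y => ⟨?_, ?_⟩
  · rintro ⟨y, hy, rfl⟩
    exact ⟨⟨m, hm⟩ * y * ⟨m, hm⟩⁻¹, hn.conj_mem y hy _, rfl⟩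
  · rintro ⟨z, hz, e⟩
    have e' : (z : G) = m * y * m⁻¹ := e
    refine ⟨⟨m, hm⟩⁻¹ * z * (⟨m, hm⟩⁻¹)⁻¹, hn.conj_mem z hz _, ?_⟩
    simp [e', mul_assoc]

theorem le_oc {X : Subgroup G} (hXM : X ≤ M) (hX : M ≤ Subgroup.normalizer (X : Set G))
    (hodd : Odd (Nat.card X)) : X ≤ oc M := fun x hx => by
  have := Subgroup.normal_subgroupOf_of_le_normalizer hX
  have hc : (Nat.card (X.subgroupOf M)).Coprime 2 := by
    rw [Nat.card_congr (Subgroup.subgroupOfEquivOfLe hXM).toEquiv, Nat.coprime_two_right]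
    exact hodd
  exact ⟨⟨x, hXM hx⟩, le_pPrimeCore (N := X.subgroupOf M) this hc hx, rfl⟩

/-- An element of a 2-group and of an odd group is trivial. -/
theorem eq_one_of_two_odd {P X : Subgroup G} (hP : IsPGroup 2 P) (hX : Odd (Nat.card X)) {x : G}
    (hxP : x ∈ P) (hxX : x ∈ X) : x = 1 := by
  obtain ⟨k, hk⟩ := hP ⟨x, hxP⟩
  have h1 : x ^ 2 ^ k = 1 := congrArg Subtype.val hk
  exact orderOf_eq_one_iff.1 (Nat.eq_one_of_dvd_coprimes
    (Nat.Coprime.pow_left k (Nat.coprime_two_left.2 hX)) (orderOf_dvd_of_pow_eq_one h1)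
    (Subgroup.orderOf_dvd_natCard _ hxX))

theorem Hyp.inv_oc (h : Hyp σ) (hM : Inv σ M) : Inv σ (oc M) := by
  rintro _ ⟨y, hy, rfl⟩
  exact ⟨resAut h hM y, inv_of_characteristic _ (hN := pPrimeCore_characteristic 2 M) y hy, rfl⟩

/-- `G = O_{2',2} C(σ)` and `O_{2',2} = O P` inside an invariant solvable subgroup. -/
theorem Hyp.decompose (h : Hyp σ) (hM : Inv σ M) [Group.IsSolvable M] (P : Sylow 2 G)
    (hPM : (P : Subgroup G) ≤ M) : ∃ L : Subgroup G, L ≤ M ∧ M ≤ Subgroup.normalizer (L : Set G) ∧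
      (P : Subgroup G) ≤ L ∧ (∀ l ∈ L, ∃ k ∈ oc M, ∃ p ∈ (P : Subgroup G), l = k * p) ∧
      ∀ m ∈ M, ∃ c, σ c = c ∧ c ∈ M ∧ m⁻¹ * c ∈ L := by
  have : Fact (Nat.Prime 2) := ⟨Nat.prime_two⟩
  obtain ⟨hidx, hfix⟩ := (h.restrict hM).structure_of_solvable
  have : (Cfsg.pPrimeCore 2 M).Normal := pPrimeCore_normal 2 M
  set O := Cfsg.pPrimeCore 2 M
  have : (Cfsg.pCore 2 (M ⧸ O)).Normal := pCore_normal 2 _
  set Q := Cfsg.pCore 2 (M ⧸ O)
  have hLn : (Cfsg.pPrimePCore 2 M).Normal := Subgroup.Normal.comap inferInstance _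
  set L0 := Cfsg.pPrimePCore 2 M
  let T : Sylow 2 M := P.subtype hPM
  have hidxQ : ¬ 2 ∣ Q.index := by
    have e : L0.index = Q.index :=
      Subgroup.index_comap_of_surjective _ (QuotientGroup.mk'_surjective O)
    rwa [e] at hidx
  let TQ : Sylow 2 (M ⧸ O) := T.mapSurjective (QuotientGroup.mk'_surjective O)
  have hTQ : (TQ : Subgroup (M ⧸ O)) = Q := by
    refine le_antisymm ?_ (pCore_le_sylow TQ)
    intro q hq
    rw [← QuotientGroup.eq_one_iff]
    obtain ⟨k, hk⟩ := TQ.2 ⟨q, hq⟩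
    have h1 : ((q : M ⧸ O) : (M ⧸ O) ⧸ Q) ^ 2 ^ k = 1 := by
      have e : q ^ 2 ^ k = 1 := congrArg Subtype.val hk
      rw [← QuotientGroup.mk_pow, e]; rfl
    exact orderOf_eq_one_iff.1 (Nat.eq_one_of_dvd_coprimes
      (Nat.Coprime.pow_left k (Nat.prime_two.coprime_iff_not_dvd.2 hidxQ))
      (orderOf_dvd_of_pow_eq_one h1) (Subgroup.index_eq_card Q ▸ orderOf_dvd_natCard _))
  refine ⟨L0.map M.subtype, Subgroup.map_subtype_le _, ?_, ?_, ?_, ?_⟩
  · intro m hm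
    refine Subgroup.mem_normalizer_iff.2 fun y => ⟨?_, ?_⟩
    · rintro ⟨y, hy, rfl⟩
      exact ⟨⟨m, hm⟩ * y * ⟨m, hm⟩⁻¹, hLn.conj_mem y hy _, rfl⟩
    · rintro ⟨z, hz, e⟩
      have e' : (z : G) = m * y * m⁻¹ := e
      refine ⟨⟨m, hm⟩⁻¹ * z * (⟨m, hm⟩⁻¹)⁻¹, hLn.conj_mem z hz _, ?_⟩
      simp [e', mul_assoc]
  · intro p hp
    refine ⟨⟨p, hPM hp⟩, ?_, rfl⟩
    show QuotientGroup.mk' O ⟨p, hPM hp⟩ ∈ Q
    rw [← hTQ]
    exact Subgroup.mem_map_of_mem _ (show (⟨p, hPM hp⟩ : M) ∈ (T : Subgroup M) from hp)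
  · rintro _ ⟨l, hl, rfl⟩
    have h1 : QuotientGroup.mk' O l ∈ (TQ : Subgroup (M ⧸ O)) := by rw [hTQ]; exact hl
    obtain ⟨t, ht, e⟩ := Subgroup.mem_map.1 h1
    have hk : l * t⁻¹ ∈ O := (QuotientGroup.eq_one_iff _).1 (by
      show QuotientGroup.mk' O (l * t⁻¹) = 1
      rw [map_mul, map_inv, e, mul_inv_cancel])
    exact ⟨_, ⟨_, hk, rfl⟩, t, ht, by simp⟩
  · intro m hm
    obtain ⟨c, hc, hcL⟩ := hfix ⟨m, hm⟩
    exact ⟨c, congrArg Subtype.val hc, c.2, _, hcL, rfl⟩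

/-- The Frattini argument. -/
theorem Hyp.frattini (h : Hyp σ) (hM : Inv σ M) [Group.IsSolvable M] (P : Sylow 2 G)
    (hPM : (P : Subgroup G) ≤ M) {m : G} (hm : m ∈ M) :
    ∃ k ∈ oc M, ∃ n ∈ Subgroup.normalizer ((P : Subgroup G) : Set G), n ∈ M ∧ m = k * n := by
  have : Fact (Nat.Prime 2) := ⟨Nat.prime_two⟩
  obtain ⟨L, hLM, hML, hPL, hdec, -⟩ := h.decompose hM P hPM
  set Pm : Sylow 2 G := m • P
  have hPm : (Pm : Subgroup G) ≤ L := by
    intro y hy
    rw [Sylow.coe_subgroup_smul] at hy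
    obtain ⟨x, hx, rfl⟩ := hy
    exact (Subgroup.mem_normalizer_iff.1 (hML hm) x).1 (hPL hx)
  obtain ⟨l, hl⟩ := MulAction.exists_smul_eq L (P.subtype hPL) (Pm.subtype hPm)
  obtain ⟨k, hk, p, hp, hlk⟩ := hdec l l.2
  refine ⟨k, hk, k⁻¹ * m, ?_, mul_mem (inv_mem (oc_le M hk)) hm, by group⟩
  have hsm : (l : G) • P = Pm := by
    rw [Sylow.smul_subtype hPL] at hl
    exact Sylow.subtype_injective hl
  have h1 : (l : G)⁻¹ * m ∈ Subgroup.normalizer ((P : Subgroup G) : Set G) := by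
    refine Sylow.smul_eq_iff_mem_normalizer.1 ?_
    rw [mul_smul, inv_smul_eq_iff, hsm]
  have e : k⁻¹ * m = p * ((l : G)⁻¹ * m) := by rw [hlk]; group
  rw [e]
  exact mul_mem (Subgroup.le_normalizer hp) h1

/-- The odd core of the normaliser centralises the Sylow subgroup. -/
theorem oc_normalizer_centralizes (P : Sylow 2 G) {k p : G}
    (hk : k ∈ oc (Subgroup.normalizer ((P : Subgroup G) : Set G))) (hp : p ∈ (P : Subgroup G)) :
    k * p = p * k := by
  have hkM := oc_le _ hk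
  have h1 : k * p * k⁻¹ * p⁻¹ ∈ (P : Subgroup G) :=
    mul_mem ((Subgroup.mem_normalizer_iff.1 hkM p).1 hp) (inv_mem hp)
  have h2 : k * p * k⁻¹ * p⁻¹ ∈ oc (Subgroup.normalizer ((P : Subgroup G) : Set G)) := by
    have h3 := (Subgroup.mem_normalizer_iff.1
      (le_normalizer_oc _ (Subgroup.le_normalizer hp)) k⁻¹).1 (inv_mem hk)
    have := mul_mem hk h3
    rwa [← mul_assoc, ← mul_assoc] at this
  have := eq_one_of_two_odd P.2 (odd_oc _) h1 h2
  rw [mul_inv_eq_one, mul_inv_eq_iff_eq_mul] at this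
  exact this

/-- Fusion in the normaliser is realised by fixed elements on the centre. -/
theorem Hyp.exists_fixed_conj (h : Hyp σ) (P : Sylow 2 G) (hP : Inv σ (P : Subgroup G))
    [Group.IsSolvable (Subgroup.normalizer ((P : Subgroup G) : Set G))] {n : G}
    (hn : n ∈ Subgroup.normalizer ((P : Subgroup G) : Set G)) :
    ∃ c, σ c = c ∧ ∀ v, (∀ p ∈ (P : Subgroup G), v * p = p * v) → v ∈ (P : Subgroup G) →
      n * v * n⁻¹ = c * v * c⁻¹ := by
  obtain ⟨L, -, -, -, hdec, hfix⟩ :=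
    h.decompose (h.inv_normalizer hP) P Subgroup.le_normalizer
  obtain ⟨c, hc, -, hcL⟩ := hfix n hn
  obtain ⟨k, hk, p, hp, e⟩ := hdec _ hcL
  refine ⟨c, hc, fun v hvc hvP => ?_⟩
  have hce : c = n * k * p := by rw [mul_assoc, ← e, mul_inv_cancel_left]
  have hpv : p * v * p⁻¹ = v := by rw [← hvc p hp, mul_inv_cancel_right]
  have hkv : k * v * k⁻¹ = v := by rw [oc_normalizer_centralizes P hk hvP, mul_inv_cancel_right]
  calc n * v * n⁻¹ = n * (k * v * k⁻¹) * n⁻¹ := by rw [hkv]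
    _ = n * (k * (p * v * p⁻¹) * k⁻¹) * n⁻¹ := by rw [hpv]
    _ = c * v * c⁻¹ := by rw [hce]; group

/-- An odd element centralising the Sylow subgroup lies in the core of the normaliser. -/
theorem Hyp.mem_oc_of_centralizes (h : Hyp σ) (P : Sylow 2 G) (hP : Inv σ (P : Subgroup G))
    [Group.IsSolvable (Subgroup.normalizer ((P : Subgroup G) : Set G))] {x : G}
    (hx : Odd (orderOf x)) (hc : ∀ p ∈ (P : Subgroup G), x * p = p * x) :
    x ∈ oc (Subgroup.normalizer ((P : Subgroup G) : Set G)) := by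
  have : Fact (Nat.Prime 2) := ⟨Nat.prime_two⟩
  set M := Subgroup.normalizer ((P : Subgroup G) : Set G)
  have hxM : x ∈ M := Subgroup.mem_normalizer_iff.2 fun y => by
    constructor
    · intro hy; rwa [hc y hy, mul_inv_cancel_right]
    · intro hy
      have e : y = x * y * x⁻¹ := by
        have h1 := hc _ hy
        calc y = x⁻¹ * ((x * y * x⁻¹) * x) := by group
          _ = x⁻¹ * (x * (x * y * x⁻¹)) := by rw [h1]
          _ = x * y * x⁻¹ := by group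
      rwa [← e] at hy
  have : (Cfsg.pPrimeCore 2 M).Normal := pPrimeCore_normal 2 M
  set O := Cfsg.pPrimeCore 2 M
  set q : M ⧸ O := QuotientGroup.mk' O ⟨x, hxM⟩ with hq
  have hqQ : q ∈ Cfsg.pCore 2 (M ⧸ O) := by
    refine centralizer_pCore_le 2 (pPrimeCore_quotient_eq_bot 2)
      (Subgroup.mem_centralizer_iff.2 fun r hr => ?_)
    obtain ⟨t, ht, rfl⟩ := Subgroup.mem_map.1 (pCore_le_sylow
      ((P.subtype (Subgroup.le_normalizer : (P : Subgroup G) ≤ M)).mapSurjective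
        (QuotientGroup.mk'_surjective O)) hr)
    rw [hq, ← map_mul, ← map_mul]
    exact congrArg _ (Subtype.ext (hc t ht).symm)
  obtain ⟨k, hk⟩ := (pCore_isPGroup (G := M ⧸ O) 2) ⟨q, hqQ⟩
  have h1 : q = 1 := orderOf_eq_one_iff.1 (Nat.eq_one_of_dvd_coprimes
    (Nat.Coprime.pow_left k (Nat.coprime_two_left.2 hx))
    (orderOf_dvd_of_pow_eq_one (congrArg Subtype.val hk))
    ((orderOf_map_dvd _ _).trans (by rw [Subgroup.orderOf_mk])))
  exact ⟨⟨x, hxM⟩, (QuotientGroup.eq_one_iff _).1 h1, rfl⟩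

end CfsgLib.Recog.FpfThree
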