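import Cfsg.Agent.Lib.Recog.FpfThree.Centralizer
import Cfsg.Agent.Lib.Comp.SFT.Main

/-!
A group of order prime to three with an automorphism of order three fixing no involution is solvable.
-/

set_option autoImplicit false
set_option linter.unusedSectionVars false
set_option maxHeartbeats 1000000

namespace CfsgLib.Recog.FpfThree

open CfsgLib.Solvable
open scoped Pointwise

universe u

variable {G : Type u} [Group G] [Finite G] {σ : MulAut G} {P : Sylow 2 G}

local notation "cen(" x ")" => Subgroup.centralizer ({x} : Set G)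

theorem oc_map_le {M N : Subgroup G} (f : MulAut G) (hf : M.map (f : G →* G) = N) :
    (oc M).map (f : G →* G) ≤ oc N := by
  refine le_oc (hf ▸ Subgroup.map_mono (oc_le M)) ?_ ?_
  · rw [← hf]
    have e := Subgroup.map_equiv_normalizer_eq (oc M) f
    exact (Subgroup.map_mono (le_normalizer_oc M)).trans e.le
  · rw [← Nat.card_congr ((oc M).equivMapOfInjective (f : G →* G) f.injective).toEquiv]
    exact odd_oc M

theorem map_cen (f : MulAut G) (v : G) : (cen(v)).map (f : G →* G) = cen(f v) := by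
  ext x
  obtain ⟨y, rfl⟩ := f.surjective x
  rw [Subgroup.mem_centralizer_singleton_iff]
  constructor
  · rintro ⟨z, hz, e⟩
    rw [← f.injective e, ← map_mul, ← map_mul, Subgroup.mem_centralizer_singleton_iff.1 hz]
  · intro h
    rw [← map_mul, ← map_mul] at h
    exact ⟨y, Subgroup.mem_centralizer_singleton_iff.2 (f.injective h), rfl⟩

theorem map_omega {n : G} (hn : n ∈ Subgroup.normalizer ((P : Subgroup G) : Set G)) {v : G}
    (hv : v ∈ omega P) : n * v * n⁻¹ ∈ omega P := by
  refine ⟨(Subgroup.mem_normalizer_iff.1 hn v).1 hv.1, fun p hp => ?_, ?_⟩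
  · have hq : n⁻¹ * p * n ∈ (P : Subgroup G) :=
      (Subgroup.mem_normalizer_iff.1 hn _).2 (by simpa [mul_assoc] using hp)
    calc n * v * n⁻¹ * p = n * (v * (n⁻¹ * p * n)) * n⁻¹ := by group
      _ = n * ((n⁻¹ * p * n) * v) * n⁻¹ := by rw [hv.2.1 _ hq]
      _ = p * (n * v * n⁻¹) := by group
  · calc n * v * n⁻¹ * (n * v * n⁻¹) = n * (v * v) * n⁻¹ := by group
      _ = 1 := by rw [hv.2.2, mul_one, mul_inv_cancel]

/-- Balance. -/
theorem Min.balance (hm : Min σ) (hP : Inv σ (P : Subgroup G)) {v b : G} (hv : v ∈ omega P)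
    (hb : b ∈ omega P) (hb1 : b ≠ 1) :
    oc cen(v) ⊓ cen(b) ≤ oc cen(b) := by
  have : Fact (Nat.Prime 2) := ⟨Nat.prime_two⟩
  rintro x ⟨hxv, hxb⟩
  obtain ⟨-, hdec⟩ := hm.centralizer_omega hP hb hb1
  have := hm.solvable_normalizer hP
  set C := cen(b)
  have : (Cfsg.pPrimeCore 2 C).Normal := pPrimeCore_normal 2 _
  set O := Cfsg.pPrimeCore 2 C
  set π := QuotientGroup.mk' O
  obtain ⟨k, ⟨k', hk', rfl⟩, n, hn, hnC, e⟩ := hdec x hxb
  set X : C := ⟨x, hxb⟩
  set N : C := ⟨n, hnC⟩
  have hπ : π X = π N := by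
    rw [show X = k' * N from Subtype.ext e, map_mul,
      show π k' = 1 from (QuotientGroup.eq_one_iff k').2 hk', one_mul]
  have hxodd : Odd (orderOf x) :=
    (odd_oc cen(v)).of_dvd_nat (Subgroup.orderOf_dvd_natCard _ hxv)
  -- `n` centralises `P`
  have hnc : ∀ p ∈ (P : Subgroup G), n * p = p * n := by
    intro p hp
    have h1 : n * p * n⁻¹ * p⁻¹ ∈ (P : Subgroup G) :=
      mul_mem ((Subgroup.mem_normalizer_iff.1 hn p).1 hp) (inv_mem hp)
    have hpC : p ∈ C := le_cen_omega hb hp
    have hxp : x * p * x⁻¹ * p⁻¹ ∈ oc cen(v) := by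
      have h3 := (Subgroup.mem_normalizer_iff.1
        (le_normalizer_oc _ (le_cen_omega hv hp)) x⁻¹).1 (inv_mem hxv)
      have := mul_mem hxv h3
      rwa [← mul_assoc, ← mul_assoc] at this
    set p' : C := ⟨p, hpC⟩
    set d : C := N * p' * N⁻¹ * p'⁻¹
    set d' : C := X * p' * X⁻¹ * p'⁻¹
    have hd : π d = π d' := by simp only [d, d', map_mul, map_inv, hπ]
    have hd1 : π d = 1 := by
      obtain ⟨l, hl⟩ := P.2 ⟨_, h1⟩
      have h2 : d ^ 2 ^ l = 1 := Subtype.ext (congrArg Subtype.val hl :)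
      have h4 : orderOf d' ∣ Nat.card (oc cen(v)) := by
        rw [← Subgroup.orderOf_coe]
        exact Subgroup.orderOf_dvd_natCard _ hxp
      refine orderOf_eq_one_iff.1 (Nat.eq_one_of_dvd_coprimes
        (Nat.Coprime.pow_left l (Nat.coprime_two_left.2 (odd_oc cen(v))))
        (orderOf_dvd_of_pow_eq_one (by rw [← map_pow, h2, map_one])) ?_)
      rw [hd]
      exact (orderOf_map_dvd π d').trans h4
    have h5 : n * p * n⁻¹ * p⁻¹ ∈ oc C := ⟨d, (QuotientGroup.eq_one_iff d).1 hd1, rfl⟩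
    have := eq_one_of_two_odd P.2 (odd_oc C) h1 h5
    rw [mul_inv_eq_one, mul_inv_eq_iff_eq_mul] at this
    exact this
  -- the odd part of `n` lies in the core
  obtain ⟨j, m, hm', hjm⟩ := Nat.exists_eq_two_pow_mul_odd (orderOf_pos n).ne'
  set n' := n ^ 2 ^ j with hn'
  have hn'odd : Odd (orderOf n') := by
    refine hm'.of_dvd_nat (orderOf_dvd_of_pow_eq_one ?_)
    rw [hn', ← pow_mul, ← hjm, pow_orderOf_eq_one]
  have hn'P : n' ∈ oc (Subgroup.normalizer ((P : Subgroup G) : Set G)) :=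
    hm.hyp.mem_oc_of_centralizes P hP hn'odd fun p hp =>
      ((show Commute n p from hnc p hp).pow_left _).eq
  have hle : oc (Subgroup.normalizer ((P : Subgroup G) : Set G)) ≤ oc C := by
    refine le_oc_of_decomp (U := Subgroup.normalizer ((P : Subgroup G) : Set G) ⊓ C) inf_le_right
      (fun y hy => ?_) (fun y hy => ?_) (odd_oc _) (inf_le_left.trans (le_normalizer_oc _))
    · obtain ⟨k, hk, u, hu, huC, rfl⟩ := hdec y hy
      exact ⟨k, hk, u, ⟨hu, huC⟩, rfl⟩
    · exact Subgroup.mem_centralizer_singleton_iff.2 (oc_normalizer_centralizes P hy hb.1)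
  obtain ⟨c, hc, hce⟩ := hle hn'P
  have h6 : π X ^ 2 ^ j = 1 := by
    rw [hπ, ← map_pow]
    refine (QuotientGroup.eq_one_iff _).2 ?_
    have : N ^ 2 ^ j = c := Subtype.ext (by rw [SubmonoidClass.coe_pow]; exact hce.symm)
    rw [this]; exact hc
  have h7 : π X = 1 := orderOf_eq_one_iff.1 (Nat.eq_one_of_dvd_coprimes
    (Nat.Coprime.pow_left j (Nat.coprime_two_left.2 hxodd)) (orderOf_dvd_of_pow_eq_one h6)
    ((orderOf_map_dvd π X).trans (by rw [Subgroup.orderOf_mk])))
  exact ⟨X, (QuotientGroup.eq_one_iff X).1 h7, rfl⟩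

/-- The rank of the centre is at least three. -/
theorem Min.eight_le (hm : Min σ) (hP : Inv σ (P : Subgroup G)) : 2 ^ 3 ≤ Nat.card (omega P) := by
  classical
  have : Fact (Nat.Prime 2) := ⟨Nat.prime_two⟩
  have h := hm.hyp
  have hne : Nontrivial (P : Subgroup G) :=
    (Subgroup.nontrivial_iff_ne_bot _).2 (hm.sylow_ne_bot P)
  obtain ⟨v, hv, hv1⟩ : ∃ v ∈ omega P, v ≠ 1 := by
    have := P.2.center_nontrivial
    obtain ⟨k, hk, hc⟩ :=
      (P.2.to_subgroup (Subgroup.center (P : Subgroup G))).nontrivial_iff_card.1 this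
    obtain ⟨z, hz⟩ := exists_prime_orderOf_dvd_card' 2
      (hc ▸ dvd_pow_self 2 hk.ne' : 2 ∣ Nat.card (Subgroup.center (P : Subgroup G)))
    have hz' : orderOf ((z : (P : Subgroup G)) : G) = 2 := by
      rw [Subgroup.orderOf_coe, Subgroup.orderOf_coe, hz]
    refine ⟨((z : (P : Subgroup G)) : G), ⟨(z : (P : Subgroup G)).2, fun p hp =>
      (congrArg Subtype.val (Subgroup.mem_center_iff.1 z.2 ⟨p, hp⟩)).symm, ?_⟩, fun e => ?_⟩
    · rw [← pow_two]
      exact orderOf_dvd_iff_pow_eq_one.1 hz'.dvd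
    · rw [e, orderOf_one] at hz'; omega
  set b := σ v
  set w := σ b
  have hb : b ∈ omega P := h.inv_omega hP v hv
  have hw : w ∈ omega P := h.inv_omega hP b hb
  obtain ⟨u, hu, hu4⟩ : ∃ u ∈ omega P, u ≠ 1 ∧ u ≠ v ∧ u ≠ b ∧ u ≠ w := by
    by_contra hcon
    push Not at hcon
    have hiso : Cfsg.IsIsolatedInvolution v := by
      refine CfsgLib.Invol.isolated_of_sylow P (orderOf_omega hv hv1) hv.1 fun g hg => ?_
      have h1 : g * v * g⁻¹ ≠ 1 := fun e => hv1 (by
        rw [mul_inv_eq_one, mul_eq_left] at e; exact e)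
      by_contra h2
      exact (hm.not_conj hP hv hv1 g).2
        (hcon _ (hm.omega_conj hP hv hg).1 h1 h2 (hm.not_conj hP hv hv1 g).1)
    have hOn : (Cfsg.pPrimeCore 2 G).Normal := pPrimeCore_normal 2 G
    have hO : Cfsg.pPrimeCore 2 G = ⊥ := hm.eq_bot_of_normal_odd
      (inv_of_characteristic _ (hN := pPrimeCore_characteristic 2 G))
      (by rw [← Nat.coprime_two_right]; exact pPrimeCore_coprime 2)
    refine hm.not_mem_center hv1 (Subgroup.mem_center_iff.2 fun g => ?_)
    have hz : v * g * v⁻¹ * g⁻¹ ∈ Cfsg.pPrimeCore 2 G := CfsgLib.Invol.zstar G hiso g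
    rw [hO, Subgroup.mem_bot, mul_inv_eq_one, mul_inv_eq_iff_eq_mul] at hz
    exact hz.symm
  obtain ⟨hu1, huv, hub, huw⟩ := hu4
  have hvb : v ≠ b := fun e => hv1 (h.invol v e.symm hv.2.2)
  have hbw : b ≠ w := fun e => hvb (σ.injective e)
  have hvw : v ≠ w := fun e => (hm.not_conj hP hv hv1 1).2 (by rwa [one_mul, inv_one, mul_one])
  have hb1 : b ≠ 1 := fun e => hv1 (σ.injective (by rw [map_one]; exact e))
  have hw1 : w ≠ 1 := fun e => hb1 (σ.injective (by rw [map_one]; exact e))
  have h5 : 5 ≤ Nat.card (omega P) := by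
    let f : Fin 5 → omega P := ![1, ⟨v, hv⟩, ⟨b, hb⟩, ⟨w, hw⟩, ⟨u, hu⟩]
    have hf : Function.Injective f := by
      intro i j e
      have e' := congrArg Subtype.val e
      fin_cases i <;> fin_cases j <;>
        first
          | rfl
          | (simp only [f] at e'; simp at e'; first
              | exact absurd e' hv1 | exact absurd e'.symm hv1 | exact absurd e' hb1
              | exact absurd e'.symm hb1 | exact absurd e' hw1 | exact absurd e'.symm hw1
              | exact absurd e' hu1 | exact absurd e'.symm hu1 | exact absurd e' hvb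
              | exact absurd e'.symm hvb | exact absurd e' hbw | exact absurd e'.symm hbw
              | exact absurd e' hvw | exact absurd e'.symm hvw | exact absurd e' huv
              | exact absurd e'.symm huv | exact absurd e' hub | exact absurd e'.symm hub
              | exact absurd e' huw | exact absurd e'.symm huw)
    simpa using Nat.card_le_card_of_injective f hf
  obtain ⟨k, hk⟩ := (P.2.to_le (fun x hx => hx.1 : omega P ≤ (P : Subgroup G))).exists_card_eq
  rw [hk] at h5 ⊢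
  refine Nat.pow_le_pow_right two_pos ?_
  by_contra h3
  have : 2 ^ k ≤ 2 ^ 2 := Nat.pow_le_pow_right two_pos (by omega)
  omega

/-- **No minimal counterexample.** -/
theorem Min.false (hm : Min σ) : False := by
  classical
  have : Fact (Nat.Prime 2) := ⟨Nat.prime_two⟩
  have h := hm.hyp
  obtain ⟨P, hP⟩ := h.exists_sylow 2
  set V := omega P
  set θ : G → Subgroup G := fun v => oc cen(v)
  obtain ⟨hWodd, -⟩ := CfsgLib.Comp.SFT.solvable_functor_two V
    (fun a ha b hb => ha.2.1 b hb.1) (fun a ha => by rw [pow_two]; exact ha.2.2) (hm.eight_le hP) θ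
    (fun a _ _ => oc_le _) (fun a _ _ => (odd_oc _).not_two_dvd_nat)
    (fun a ha _ b hb x hx =>
      (Subgroup.mem_normalizer_iff.1 (le_normalizer_oc _ (le_cen_omega ha hb.1)) x).1 hx)
    (fun a _ _ => CfsgLib.FT.odd_order_solvable (odd_oc _))
    (fun a ha _ b hb hb1 => hm.balance hP ha hb hb1)
  set W := ⨆ a : {a : G // a ∈ V ∧ a ≠ 1}, θ a
  have hmap : ∀ f : MulAut G, (∀ v ∈ V, f v ∈ V) → W.map (f : G →* G) ≤ W := by
    intro f hf
    rw [Subgroup.map_iSup]
    refine iSup_le fun a => (oc_map_le f (map_cen f (a : G))).trans ?_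
    exact le_iSup_of_le ⟨f a, hf a a.2.1, fun e => a.2.2 (f.injective (by rw [e, map_one]))⟩ le_rfl
  have hWi : Inv σ W := fun x hx =>
    hmap σ (h.inv_omega hP) (Subgroup.mem_map_of_mem _ hx)
  have hNW : Subgroup.normalizer ((P : Subgroup G) : Set G) ≤ Subgroup.normalizer (W : Set G) := by
    have key : ∀ n ∈ Subgroup.normalizer ((P : Subgroup G) : Set G), ∀ x ∈ W, n * x * n⁻¹ ∈ W :=
      fun n hn x hx => hmap (MulAut.conj n) (fun v hv => map_omega hn hv) ⟨x, hx, rfl⟩
    intro n hn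
    refine Subgroup.mem_normalizer_iff.2 fun x => ⟨key n hn x, fun hx => ?_⟩
    have := key n⁻¹ (inv_mem hn) _ hx
    rwa [inv_inv, show n⁻¹ * (n * x * n⁻¹) * n = x by group] at this
  set M := W ⊔ Subgroup.normalizer ((P : Subgroup G) : Set G)
  have hM : M ≠ ⊤ := by
    by_cases hW : W = ⊥
    · show W ⊔ _ ≠ ⊤
      rw [hW, bot_sup_eq]
      exact hm.normalizer_ne_top hP P.2 (hm.sylow_ne_bot P)
    · intro e
      have hn : Subgroup.normalizer (W : Set G) = ⊤ :=
        top_le_iff.1 (e ▸ sup_le Subgroup.le_normalizer hNW)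
      have := Subgroup.normalizer_eq_top_iff.1 hn
      exact hW (hm.eq_bot_of_normal_odd hWi (by
        rwa [← Nat.not_even_iff_odd, even_iff_two_dvd]))
  have hPM : (P : Subgroup G) ≤ M := Subgroup.le_normalizer.trans le_sup_right
  have hC : ∀ v ∈ V, v ≠ 1 → cen(v) ≤ M := by
    intro v hv hv1 x hx
    obtain ⟨k, hk, n, hn, -, rfl⟩ := (hm.centralizer_omega hP hv hv1).2 x hx
    exact mul_mem (Subgroup.mem_sup_left
      ((le_iSup (fun a : {a : G // a ∈ V ∧ a ≠ 1} => θ a) ⟨v, hv, hv1⟩) hk))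
      (Subgroup.mem_sup_right hn)
  -- conjugates in `M`
  have hC' : ∀ g v, v ∈ V → v ≠ 1 → g * v * g⁻¹ ∈ M → cen(g * v * g⁻¹) ≤ M := by
    intro g v hv hv1 hgM y hy
    have hp : IsPGroup 2 (Subgroup.zpowers (⟨g * v * g⁻¹, hgM⟩ : M)) := IsPGroup.of_card (n := 1) (by
      rw [Nat.card_zpowers, Subgroup.orderOf_mk, CfsgLib.Invol.orderOf_conj_eq, orderOf_omega hv hv1,
        pow_one])
    obtain ⟨a, ha⟩ := CfsgLib.Invol.exists_conj_mem_sylow (P.subtype hPM) hp
    have hin : (a : G) * (g * v * g⁻¹) * (a : G)⁻¹ ∈ (P : Subgroup G) :=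
      ha _ (Subgroup.mem_zpowers _)
    have e : (a : G) * (g * v * g⁻¹) * (a : G)⁻¹ = ((a : G) * g) * v * ((a : G) * g)⁻¹ := by group
    rw [e] at hin
    have hv' := (hm.omega_conj hP hv hin).1
    have hv'1 : ((a : G) * g) * v * ((a : G) * g)⁻¹ ≠ 1 := fun e' => hv1 (by
      rw [mul_inv_eq_one, mul_eq_left] at e'; exact e')
    have hy' : (a : G) * y * (a : G)⁻¹ ∈ cen(((a : G) * g) * v * ((a : G) * g)⁻¹) := by
      rw [Subgroup.mem_centralizer_singleton_iff, ← e]
      have := Subgroup.mem_centralizer_singleton_iff.1 hy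
      calc (a : G) * y * (a : G)⁻¹ * ((a : G) * (g * v * g⁻¹) * (a : G)⁻¹)
          = a * (y * (g * v * g⁻¹)) * (a : G)⁻¹ := by group
        _ = a * ((g * v * g⁻¹) * y) * (a : G)⁻¹ := by rw [this]
        _ = _ := by group
    have := mul_mem (mul_mem (inv_mem a.2) (hC _ hv' hv'1 hy')) a.2
    rwa [show (a : G)⁻¹ * ((a : G) * y * (a : G)⁻¹) * a = y by group] at this
  -- every conjugate lies in `M`
  have hall : ∀ v ∈ V, v ≠ 1 → ∀ g : G, g * v * g⁻¹ ∈ M := by
    intro v hv hv1 g
    set b := σ v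
    set u := g * v * g⁻¹ with hu
    have hb : b ∈ V := h.inv_omega hP v hv
    have hb1 : b ≠ 1 := fun e => hv1 (σ.injective (by rw [map_one]; exact e))
    have hbo := orderOf_omega hb hb1
    have huo : orderOf u = 2 := by rw [hu, CfsgLib.Invol.orderOf_conj_eq, orderOf_omega hv hv1]
    set x := u * b with hx
    have heven : ¬ Odd (orderOf x) := fun ho => by
      obtain ⟨d, -, hd⟩ := CfsgLib.Invol.exists_conj_of_odd huo hbo ho
      refine (hm.not_conj hP hv hv1 (d * g)).1 ?_
      show _ = b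
      rw [← hd, hu]; group
    obtain ⟨k, m, ⟨j, rfl⟩, e⟩ := Nat.exists_eq_two_pow_mul_odd (orderOf_pos x).ne'
    set y := x ^ (2 * j + 1) with hy
    have hbb : b * b = 1 := hb.2.2
    have huu : u * u = 1 := by rw [← pow_two, ← huo, pow_orderOf_eq_one]
    have hyk : y ^ 2 ^ k = 1 := by rw [hy, ← pow_mul, mul_comm, ← e, pow_orderOf_eq_one]
    have hy1 : y ≠ 1 := fun hy1 => heven <| by
      have hd := orderOf_dvd_of_pow_eq_one (hy1 : x ^ (2 * j + 1) = 1)
      exact (show Odd (2 * j + 1) from ⟨j, rfl⟩).of_dvd_nat hd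
    have hinvx : b * x * b⁻¹ = x⁻¹ := by
      rw [hx, inv_eq_of_mul_eq_one_right hbb, mul_inv_rev, inv_eq_of_mul_eq_one_right hbb,
        inv_eq_of_mul_eq_one_right huu]
      calc b * (u * b) * b = b * u * (b * b) := by group
        _ = b * u := by rw [hbb, mul_one]
    have hby : b * y * b⁻¹ = y⁻¹ := by rw [hy, ← conj_pow, hinvx, inv_pow]
    have hp1 : IsPGroup 2 (Subgroup.zpowers y) := by
      obtain ⟨i, -, hi⟩ := (Nat.dvd_prime_pow Nat.prime_two).1 (orderOf_dvd_of_pow_eq_one hyk)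
      exact IsPGroup.of_card (n := i) (by rw [Nat.card_zpowers, hi])
    have hE : IsPGroup 2 (Subgroup.zpowers y ⊔ Subgroup.zpowers b : Subgroup G) := by
      refine hp1.to_sup_of_normal_left' (IsPGroup.of_card (n := 1)
        (by rw [Nat.card_zpowers, hbo, pow_one])) ?_
      rw [Subgroup.zpowers_le, Subgroup.mem_normalizer_iff]
      have key : ∀ z ∈ Subgroup.zpowers y, b * z * b⁻¹ ∈ Subgroup.zpowers y := by
        rintro _ ⟨i, rfl⟩
        show b * y ^ i * b⁻¹ ∈ _
        rw [← conj_zpow, hby]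
        exact zpow_mem (inv_mem (Subgroup.mem_zpowers y)) i
      intro z
      refine ⟨key z, fun hz => ?_⟩
      have h2 := key _ hz
      rw [inv_eq_of_mul_eq_one_right hbb] at h2
      rwa [show b * (b * z * b) * b = (b * b) * z * (b * b) by group, hbb, one_mul, mul_one] at h2
    obtain ⟨a, ha⟩ := CfsgLib.Invol.exists_conj_mem_sylow P hE
    have hyE : y ∈ Subgroup.zpowers y ⊔ Subgroup.zpowers b :=
      Subgroup.mem_sup_left (Subgroup.mem_zpowers y)
    have hbE : b ∈ Subgroup.zpowers y ⊔ Subgroup.zpowers b :=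
      Subgroup.mem_sup_right (Subgroup.mem_zpowers b)
    have hbV : a * b * a⁻¹ ∈ V := (hm.omega_conj hP hb (ha b hbE)).1
    have hyb : y * b = x ^ j * u * (x ^ j)⁻¹ := by
      have hux : u * x⁻¹ * u = x := by
        rw [hx, mul_inv_rev, inv_eq_of_mul_eq_one_right huu, inv_eq_of_mul_eq_one_right hbb]
        calc u * (b * u) * u = u * b * (u * u) := by group
          _ = u * b := by rw [huu, mul_one]
      have hux' : u * (x ^ j)⁻¹ = x ^ j * u := by
        have h2 : u * (x⁻¹) ^ j * u = x ^ j := by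
          have := conj_pow (a := u) (b := x⁻¹) (i := j)
          rw [inv_eq_of_mul_eq_one_right huu] at this
          rw [← this, hux]
        rw [← inv_pow]
        calc u * x⁻¹ ^ j = u * x⁻¹ ^ j * (u * u) := by rw [huu, mul_one]
          _ = (u * x⁻¹ ^ j * u) * u := by group
          _ = x ^ j * u := by rw [h2]
      calc y * b = x ^ j * x ^ j * (u * (b * b)) := by
            rw [hy, show 2 * j + 1 = j + j + 1 by omega, pow_succ, pow_add, hx]; group
        _ = x ^ j * (x ^ j * u) := by rw [hbb, mul_one, mul_assoc]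
        _ = x ^ j * u * (x ^ j)⁻¹ := ((mul_assoc _ u _).trans (congrArg (x ^ j * ·) hux')).symm
    have hybV : a * (y * b) * a⁻¹ ∈ V := by
      have e1 : a * (y * b) * a⁻¹ = (a * x ^ j * g) * v * (a * x ^ j * g)⁻¹ := by
        rw [hyb, hu]; group
      rw [e1]
      exact (hm.omega_conj hP hv (e1 ▸ ha _ (mul_mem hyE hbE))).1
    have hyV : a * y * a⁻¹ ∈ V := by
      rw [show a * y * a⁻¹ = (a * (y * b) * a⁻¹) * (a * b * a⁻¹)⁻¹ by group]
      exact mul_mem hybV (inv_mem hbV)
    have hyy : y * y = 1 := by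
      have h2 := hyV.2.2
      rw [show a * y * a⁻¹ * (a * y * a⁻¹) = a * (y * y) * a⁻¹ by group, mul_inv_eq_one,
        mul_eq_left] at h2
      exact h2
    have hyb' : y * b = b * y := by
      have := mul_inv_eq_iff_eq_mul.1 hby
      rw [inv_eq_of_mul_eq_one_right hyy] at this
      exact this.symm
    have hyM : y ∈ M := hC b hb hb1 (Subgroup.mem_centralizer_singleton_iff.2 hyb')
    have e2 : a⁻¹ * (a * y * a⁻¹) * a⁻¹⁻¹ = y := by group
    have hCy : cen(y) ≤ M := by
      have := hC' a⁻¹ (a * y * a⁻¹) hyV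
        (fun e3 => hy1 (by rw [← e2, e3]; group)) (by rw [e2]; exact hyM)
      rwa [e2] at this
    refine hCy (Subgroup.mem_centralizer_singleton_iff.2 ?_)
    have hinvu : u * x * u⁻¹ = x⁻¹ := by
      rw [hx, inv_eq_of_mul_eq_one_right huu, mul_inv_rev, inv_eq_of_mul_eq_one_right huu,
        inv_eq_of_mul_eq_one_right hbb]
      calc u * (u * b) * u = (u * u) * b * u := by group
        _ = b * u := by rw [huu, one_mul]
    have huy : u * y * u⁻¹ = y := by
      rw [hy, ← conj_pow, hinvu, inv_pow, ← hy, inv_eq_of_mul_eq_one_right hyy]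
    exact mul_inv_eq_iff_eq_mul.1 huy
  -- the normal closure
  obtain ⟨v, hv, hv1⟩ : ∃ v ∈ V, v ≠ 1 := by
    by_contra hc
    push Not at hc
    have e : V = ⊥ := (Subgroup.eq_bot_iff_forall _).2 hc
    have h8 := hm.eight_le hP
    rw [show omega P = (⊥ : Subgroup G) from e, Subgroup.card_bot] at h8
    omega
  set N := Subgroup.normalClosure (V : Set G)
  have hNM : N ≤ M := by
    rw [show N = Subgroup.closure (Group.conjugatesOfSet (V : Set G)) from rfl, Subgroup.closure_le]
    intro z hz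
    obtain ⟨a, ha, hza⟩ := Group.mem_conjugatesOfSet_iff.1 hz
    obtain ⟨c, rfl⟩ := isConj_iff.1 hza
    by_cases ha1 : a = 1
    · rw [ha1, mul_one, mul_inv_cancel]; exact one_mem M
    · exact hall a ha ha1 c
  have hNi : Inv σ N := by
    have hle : N ≤ N.comap (σ : G →* G) := Subgroup.normalClosure_le_normal fun a ha =>
      Subgroup.subset_normalClosure (h.inv_omega hP a ha)
    exact fun z hz => hle hz
  rcases hm.simple N inferInstance hNi with e | e
  · exact hv1 (Subgroup.mem_bot.1 (e ▸ Subgroup.subset_normalClosure hv))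
  · exact hM (top_le_iff.1 (e ▸ hNM))

/-- **A group of order prime to three with an automorphism of order three fixing no involution is
solvable.** -/
theorem Hyp.isSolvable (h : Hyp σ) : Group.IsSolvable G := by
  suffices H : ∀ (n : ℕ) {H : Type u} [Group H] [Finite H] (τ : MulAut H), Nat.card H = n → Hyp τ →
      Group.IsSolvable H from H _ σ rfl h
  intro n
  induction n using Nat.strong_induction_on with
  | _ n ih =>
  intro H _ _ τ hn hτ
  by_contra hns
  refine Min.false (σ := τ) ⟨hτ, hns, fun M hM hMt => ?_, fun N hN hNi => ?_⟩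
  · refine ih _ ?_ (resAut hτ hM) rfl (hτ.restrict hM)
    rw [← hn]
    by_contra hle
    exact hMt (Subgroup.eq_top_of_le_card M (not_lt.1 hle))
  · by_contra hcon
    push Not at hcon
    have := hN
    obtain ⟨τ', -, hτ'⟩ := hτ.exists_quotAut N hNi
    have h1 : Nat.card N < n := by
      rw [← hn]
      by_contra hle
      exact hcon.2 (Subgroup.eq_top_of_le_card N (not_lt.1 hle))
    have h2 : Nat.card (H ⧸ N) < n := by
      rw [← hn, Subgroup.card_eq_card_quotient_mul_card_subgroup N]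
      exact lt_mul_of_one_lt_right Nat.card_pos ((Subgroup.one_lt_card_iff_ne_bot N).2 hcon.1)
    exact hns (CfsgLib.Invol.MetacyclicTwo.solvable_of_extension N
      (ih _ h1 (resAut hτ hNi) rfl (hτ.restrict hNi)) (ih _ h2 τ' rfl hτ'))

end CfsgLib.Recog.FpfThree
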