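import Mathlib

/-!
A fixed-point-free operator `s` of order three in characteristic two (`1 + s + s² = 0`) centralises
every odd order group it normalises, of order prime to three, as operators.
-/

set_option autoImplicit false
set_option linter.unusedSectionVars false
set_option maxHeartbeats 1000000

namespace CfsgLib.Recog.FpfThree

universe u v

section Ring

variable {A : Type v} [Ring A]

/-- `(g⁻¹σg)`-twisted relation: if `(G H + 1) s = G + 1` then `G + G⁻¹ = H + H⁻¹`. -/
theorem add_inv_eq (h2 : (2 : A) = 0) {G G' H H' s : A} (hGG' : G * G' = 1) (hG'G : G' * G = 1)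
    (hs : IsUnit s) (hsG : s * G' = H' * s) (hHH' : H * H' = 1)
    (hE : (G * H + 1) * s = G + 1) : G + H' = H + G' := by
  have h1 : G * (G * H + 1) * H' * s = (G * H + 1) * s := by
    calc G * (G * H + 1) * H' * s = G * ((G * H + 1) * s) * G' := by
          rw [mul_assoc _ H' s, ← hsG]; noncomm_ring
      _ = G * (G + 1) * G' := by rw [hE]
      _ = G + 1 := by rw [mul_assoc, add_mul, hGG', one_mul, mul_add, hGG', mul_one]
      _ = (G * H + 1) * s := hE.symm
  have h3 := hs.mul_right_cancel h1
  calc G + H' = G' * G * G * (H * H') + G' * G * H' := by rw [hG'G, hHH', one_mul, mul_one, one_mul]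
    _ = G' * (G * (G * H + 1) * H') := by noncomm_ring
    _ = G' * (G * H + 1) := by rw [h3]
    _ = H + G' := by rw [mul_add, ← mul_assoc, hG'G, one_mul, mul_one]

/-- A central commutator is trivial. -/
theorem comm_eq_one (h2 : (2 : A) = 0) {G G' H H' C C' : A} (hGG' : G * G' = 1)
    (hG'G : G' * G = 1) (hH'H : H' * H = 1) (hHH' : H * H' = 1) (hC'C : C' * C = 1)
    (hCC' : C * C' = 1) (hCG : Commute C G) (hCH : Commute C H) (hHG : H * G * H' = C * G)
    (hHG' : H * G' * H' = G' * C') (hsum : G + H' = H + G') {m : ℕ} (hm : Odd m)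
    (hCm : C ^ m = 1) : C = 1 := by
  have hneg : ∀ x y : A, x + y = 0 → x = y := fun x y h => by
    have e : x = x + (x + y) := by rw [h, add_zero]
    rw [e, ← add_assoc, ← two_mul, h2, zero_mul, zero_add]
  have hxx : ∀ x : A, x + x = 0 := fun x => by rw [← two_mul, h2, zero_mul]
  have hT : G + G' = H + H' := hneg _ _ <| by
    calc G + G' + (H + H') = (G + H') + (H + G') := by abel
      _ = 0 := by rw [hsum, hxx]
  have h5 : C * G + G' * C' = G + G' := by
    calc C * G + G' * C' = H * G * H' + H * G' * H' := by rw [hHG, hHG']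
      _ = H * (G + G') * H' := by noncomm_ring
      _ = H * (H + H') * H' := by rw [hT]
      _ = H * (H * H') + H * H' * H' := by noncomm_ring
      _ = G + G' := by rw [hHH', mul_one, one_mul, hT]
  have hC'G : Commute C' G := by
    calc C' * G = C' * (G * C) * C' := by rw [mul_assoc C', mul_assoc G C C', hCC', mul_one]
      _ = C' * (C * G) * C' := by rw [hCG.eq]
      _ = G * C' := by rw [← mul_assoc C', hC'C, one_mul]
  -- `(C + 1) (G² + C') = 0`
  have h6 : (C + 1) * (G * G + C') = 0 := by
    have e : (C * G + G' * C' + (G + G')) * G = 0 := by rw [h5, hxx, zero_mul]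
    calc (C + 1) * (G * G + C') = C * G * G + C * C' + (G * G + C') := by noncomm_ring
      _ = C * G * G + G' * C' * G + (G * G + G' * G) := by
          rw [hCC', mul_assoc G' C' G, hC'G.eq, ← mul_assoc G' G C', hG'G, one_mul]
          abel
      _ = (C * G + G' * C' + (G + G')) * G := by noncomm_ring
      _ = 0 := e
  -- conjugate by `H`
  have hCH' : Commute C H' := by
    calc C * H' = H' * (H * C) * H' := by rw [← mul_assoc H', hH'H, one_mul]
      _ = H' * (C * H) * H' := by rw [hCH.eq]
      _ = H' * C := by rw [mul_assoc H', mul_assoc C H H', hHH', mul_one]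
  have hC'H : Commute C' H := by
    calc C' * H = C' * (H * C) * C' := by rw [mul_assoc C', mul_assoc H C C', hCC', mul_one]
      _ = C' * (C * H) * C' := by rw [hCH.eq]
      _ = H * C' := by rw [← mul_assoc C', hC'C, one_mul]
  have h7 : (C + 1) * (C * C * (G * G) + C') = 0 := by
    have e : H * ((C + 1) * (G * G + C')) * H' = 0 := by rw [h6, mul_zero, zero_mul]
    have e1 : Commute H (C + 1) := (hCH.add_left (Commute.one_left H)).symm
    have e2 : H * (G * G) * H' = C * C * (G * G) := by
      calc H * (G * G) * H' = H * G * (H' * H) * G * H' := by rw [hH'H]; noncomm_ring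
        _ = (H * G * H') * (H * G * H') := by noncomm_ring
        _ = C * (G * C) * G := by rw [hHG]; noncomm_ring
        _ = C * C * (G * G) := by rw [← hCG.eq]; noncomm_ring
    have e3 : H * C' * H' = C' := by rw [← hC'H.eq, mul_assoc, hHH', mul_one]
    calc (C + 1) * (C * C * (G * G) + C') = (C + 1) * (H * (G * G) * H' + H * C' * H') := by
          rw [e2, e3]
      _ = (C + 1) * H * (G * G + C') * H' := by noncomm_ring
      _ = H * (C + 1) * (G * G + C') * H' := by rw [e1.eq]
      _ = 0 := by rw [mul_assoc H (C + 1), e]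
  -- hence `(C + 1) ^ 3 = 0`
  have hD : Commute (C + 1) (C * C) := by
    exact ((Commute.refl C).mul_right (Commute.refl C)).add_left (Commute.one_left _)
  have h8 : (C + 1) * (C * C + 1) = 0 := by
    have e1 : (C + 1) * (G * G) = (C + 1) * C' := hneg _ _ (by rw [← mul_add]; exact h6)
    have e2 : C * C * ((C + 1) * (G * G)) = (C + 1) * C' := hneg _ _ (by
      rw [← mul_assoc, ← hD.eq, mul_assoc, ← mul_add]; exact h7)
    rw [e1] at e2
    calc (C + 1) * (C * C + 1) = ((C + 1) * (C * C) + (C + 1)) * (C' * C) := by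
          rw [hC'C, mul_one]; noncomm_ring
      _ = ((C + 1) * (C * C) * C' + (C + 1) * C') * C := by noncomm_ring
      _ = 0 := by rw [hD.eq, mul_assoc (C * C), e2, hxx, zero_mul]
  have hsq : (C + 1) * (C + 1) = C * C + 1 := by
    calc (C + 1) * (C + 1) = C * C + 1 + (C + C) := by noncomm_ring
      _ = C * C + 1 := by rw [hxx, add_zero]
  have h4 : C ^ 4 = 1 := by
    refine hneg _ _ ?_
    calc C ^ 4 + 1 = C ^ 4 + 1 + (C * C + C * C) := by rw [hxx, add_zero]
      _ = (C * C + 1) * (C * C + 1) := by noncomm_ring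
      _ = (C + 1) * ((C + 1) * (C * C + 1)) := by rw [← hsq]; noncomm_ring
      _ = 0 := by rw [h8, mul_zero]
  exact (pow_one C).symm.trans (by
    have hg : Nat.gcd 4 m = 1 :=
      Nat.Coprime.pow_left 2 (Nat.coprime_two_left.2 hm)
    rw [← hg]; exact pow_gcd_eq_one.2 ⟨h4, hCm⟩)

theorem sq_of_triple {B : Type v} [CommRing B] (h2 : (2 : B) = 0) {a b c : B}
    (hac : a * c = b * c) (hab : a * b = a * c)
    (hs : a + b + c + a * b + a * c + b * c + a * b * c = 0) :
    a * a = a * b * c * (a + 1) := by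
  have h : a * a + a * b * c * (a + 1) = 0 := by
    linear_combination a * hs + hab - a * b * h2 - a * hab - 2 * a * hac - a * b * c * h2
  linear_combination h - a * b * c * (a + 1) * h2

/-- The commutative case. -/
theorem eq_one_of_triple {B : Type v} [CommRing B] (h2 : (2 : B) = 0) {G H K : B}
    (hp : G * H * K = 1) (h1 : (G + H) * (K + 1) = 0) (h3 : (H + K) * (G + 1) = 0) {m : ℕ}
    (hm : Odd m) (hm3 : ¬ 3 ∣ m) (hGm : G ^ m = 1) : G = 1 := by
  have hneg : ∀ x y : B, x + y = 0 → x = y := fun x y h => by linear_combination h - y * h2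
  have hac : (G + 1) * (K + 1) = (H + 1) * (K + 1) :=
    hneg _ _ (by linear_combination h1 + (K + 1) * h2)
  have hab : (G + 1) * (H + 1) = (G + 1) * (K + 1) :=
    hneg _ _ (by linear_combination h3 + (G + 1) * h2)
  have hsum : (G + 1) + (H + 1) + (K + 1) + (G + 1) * (H + 1) + (G + 1) * (K + 1) +
      (H + 1) * (K + 1) + (G + 1) * (H + 1) * (K + 1) = 0 := by
    linear_combination hp + (G * H + G * K + H * K + 2 * (G + H + K) + 4) * h2
  obtain ⟨e, he⟩ : ∃ e, e = (G + 1) * (H + 1) * (K + 1) := ⟨_, rfl⟩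
  have haa : (G + 1) * (G + 1) = e * G := by
    have := sq_of_triple h2 hac hab hsum
    linear_combination this - (G + 2) * he + e * h2
  have hbb : (H + 1) * (H + 1) = e * H := by
    have := sq_of_triple h2 (a := H + 1) (b := K + 1) (c := G + 1)
      (by linear_combination hab) (by linear_combination (-1 : B) * hab - hac)
      (by linear_combination hsum)
    linear_combination this - (H + 2) * he + e * h2
  have hcc : (K + 1) * (K + 1) = e * K := by
    have := sq_of_triple h2 (a := K + 1) (b := G + 1) (c := H + 1)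
      (by linear_combination (-1 : B) * hab - hac) (by linear_combination hac)
      (by linear_combination hsum)
    linear_combination this - (K + 2) * he + e * h2
  have he3 : e ^ 3 = e ^ 2 := by
    calc e ^ 3 = e ^ 3 * (G * H * K) := by rw [hp, mul_one]
      _ = (e * G) * (e * H) * (e * K) := by ring
      _ = ((G + 1) * (G + 1)) * ((H + 1) * (H + 1)) * ((K + 1) * (K + 1)) := by rw [haa, hbb, hcc]
      _ = e ^ 2 := by rw [he]; ring
  have hG2 : e ^ 2 * (G * G + G + 1) = 0 := by
    linear_combination e ^ 2 * haa + G * he3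
  have hG3 : e ^ 2 * G ^ 3 = e ^ 2 := by linear_combination (G - 1) * hG2
  have hpow : ∀ n : ℕ, e ^ 2 * G ^ (3 * n) = e ^ 2 := by
    intro n
    induction n with
    | zero => rw [mul_zero, pow_zero, mul_one]
    | succ n ih => rw [mul_add, pow_add, mul_one, ← mul_assoc, ih, hG3]
  have hG1 : e ^ 2 * G = e ^ 2 := by
    have hpm : ∀ n : ℕ, e ^ 2 * G ^ (m * n) = e ^ 2 := fun n => by
      rw [pow_mul, hGm, one_pow, mul_one]
    rcases (show m % 3 = 1 ∨ m % 3 = 2 by omega) with h | h
    · have := hpm 1
      rwa [mul_one, show m = 3 * (m / 3) + 1 by omega, pow_add, ← mul_assoc, hpow, pow_one] at this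
    · have := hpm 2
      rwa [show m * 2 = 3 * (2 * (m / 3) + 1) + 1 by omega, pow_add, ← mul_assoc, hpow,
        pow_one] at this
  have he2 : e ^ 2 = 0 := by
    have : e ^ 3 = 0 := by
      linear_combination (H + 1) * (K + 1) * hG1 + e ^ 2 * he + (H + 1) * (K + 1) * e ^ 2 * h2
    rw [← he3, this]
  have h4 : G ^ 4 = 1 := by
    have : (G + 1) ^ 4 = 0 := by
      calc (G + 1) ^ 4 = ((G + 1) * (G + 1)) * ((G + 1) * (G + 1)) := by ring
        _ = e ^ 2 * (G * G) := by rw [haa]; ring
        _ = 0 := by rw [he2, zero_mul]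
    linear_combination this - (2 * G ^ 3 + 3 * G ^ 2 + 2 * G + 1) * h2
  exact (pow_one G).symm.trans (by
    have hg : Nat.gcd 4 m = 1 :=
      Nat.Coprime.pow_left 2 (Nat.coprime_two_left.2 hm)
    rw [← hg]; exact pow_gcd_eq_one.2 ⟨h4, hGm⟩)

end Ring

/-- **Operator lemma.** -/
theorem operator_fixed : ∀ (n : ℕ) {R : Type u} [Group R] [Finite R] {A : Type v} [Ring A],
    Nat.card R = n → (2 : A) = 0 → ∀ (T : R →* A) (s : A), 1 + s + s * s = 0 →
    ∀ σ : MulAut R, Group.IsSolvable R → Odd n → ¬ 3 ∣ n →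
    (∀ r, s * T r = T (σ r) * s) → ∀ r, T (σ r) = T r := by
  intro n
  induction n using Nat.strong_induction_on with
  | _ n ih =>
  intro R _ _ A _ hn h2 T s hs σ hsolv hodd h3 hcomp
  rcases subsingleton_or_nontrivial R with hR | hR
  · intro r; rw [Subsingleton.elim (σ r) r]
  have hxx : ∀ x : A, x + x = 0 := fun x => by rw [← two_mul, h2, zero_mul]
  -- the commutator subgroup
  set D := commutator R
  have hlt : Nat.card D < n := by
    rw [← hn]
    by_contra h
    exact (Group.IsSolvable.commutator_lt_top_of_nontrivial R).ne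
      (Subgroup.eq_top_of_le_card D (not_lt.1 h))
  have hDmap : D.map (σ : R →* R) = D := by
    have : D.Characteristic := inferInstanceAs (commutator R).Characteristic
    exact Subgroup.characteristic_iff_map_eq.1 inferInstance σ
  let σD : MulAut D :=
    ((MulEquiv.subgroupMap σ D).trans (MulEquiv.subgroupCongr hDmap) : D ≃* D)
  have hσD : ∀ d : D, ((σD d : D) : R) = σ d := fun d => rfl
  have hdvd : Nat.card D ∣ n := hn ▸ D.card_subgroup_dvd_card
  have hDfix : ∀ d ∈ D, T (σ d) = T d := fun d hd => by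
    have := ih _ hlt (R := D) rfl h2 (T.comp D.subtype) s hs σD inferInstance (hodd.of_dvd_nat hdvd)
      (fun h => h3 (h.trans hdvd)) (fun r => hcomp r) ⟨d, hd⟩
    exact this
  have hmul : ∀ x : R, T x * T x⁻¹ = 1 ∧ T x⁻¹ * T x = 1 := fun x => by
    rw [← map_mul, ← map_mul, mul_inv_cancel, inv_mul_cancel, map_one]; exact ⟨rfl, rfl⟩
  have hs1 : s * (1 + s) = 1 := by
    calc s * (1 + s) = s * (1 + s) + (1 + 1) := by rw [hxx, add_zero]
      _ = (1 + s + s * s) + 1 := by noncomm_ring
      _ = 1 := by rw [hs, zero_add]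
  have hunit : IsUnit s := by
    refine ⟨⟨s, 1 + s, hs1, ?_⟩, rfl⟩
    calc (1 + s) * s = s * (1 + s) := by noncomm_ring
      _ = 1 := hs1
  have hss : s * s = 1 + s := by
    calc s * s = s * s + ((1 + s) + (1 + s)) := by rw [hxx, add_zero]
      _ = (1 + s + s * s) + (1 + s) := by abel
      _ = 1 + s := by rw [hs, zero_add]
  -- images of `u⁻¹ σ u`
  set g : R → R := fun u => u⁻¹ * σ u with hg
  have hgD : ∀ u, ∀ d ∈ D, Commute (T (g u)) (T d) := by
    intro u d hd
    have hud : u * d * u⁻¹ ∈ D := (inferInstance : D.Normal).conj_mem d hd u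
    have e := hDfix _ hud
    rw [map_mul, map_mul, map_inv, map_mul, map_mul, hDfix d hd, map_mul, map_mul] at e
    show T (u⁻¹ * σ u) * T d = T d * T (u⁻¹ * σ u)
    rw [map_mul]
    calc T u⁻¹ * T (σ u) * T d
        = T u⁻¹ * (T (σ u) * T d * T (σ u)⁻¹) * T (σ u) := by
          rw [mul_assoc, mul_assoc (T u⁻¹), mul_assoc (T (σ u) * T d), (hmul (σ u)).2, mul_one]
      _ = T u⁻¹ * (T u * T d * T u⁻¹) * T (σ u) := by rw [e]
      _ = T d * (T u⁻¹ * T (σ u)) := by
          rw [← mul_assoc (T u⁻¹), ← mul_assoc (T u⁻¹), (hmul u).2, one_mul, mul_assoc]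
  have hE : ∀ u, (T (g u) * T (g (σ u)) + 1) * s = T (g u) + 1 := by
    intro u
    have hG : T (g u) * s = T u⁻¹ * s * T u := by
      rw [mul_assoc (T u⁻¹), hcomp, ← mul_assoc, ← map_mul]
    have hsg : s * T (g u) = T (g (σ u)) * s := by
      rw [hcomp]
      simp only [hg, map_mul, map_inv]
    have h0 : 1 + T (g u) * s + T (g u) * s * (T (g u) * s) = 0 := by
      rw [hG]
      have e : T u⁻¹ * (1 + s + s * s) * T u = 0 := by rw [hs, mul_zero, zero_mul]
      rw [← e]
      have e1 : T u⁻¹ * s * T u * (T u⁻¹ * s * T u) = T u⁻¹ * (s * s) * T u := by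
        calc _ = T u⁻¹ * s * (T u * T u⁻¹) * (s * T u) := by noncomm_ring
          _ = _ := by rw [(hmul u).1]; noncomm_ring
      rw [e1]
      calc (1 : A) + T u⁻¹ * s * T u + T u⁻¹ * (s * s) * T u
          = T u⁻¹ * T u + T u⁻¹ * s * T u + T u⁻¹ * (s * s) * T u := by rw [(hmul u).2]
        _ = _ := by noncomm_ring
    have e2 : T (g u) * s * (T (g u) * s) = T (g u) * T (g (σ u)) * (1 + s) := by
      calc T (g u) * s * (T (g u) * s) = T (g u) * (s * T (g u)) * s := by noncomm_ring
        _ = T (g u) * T (g (σ u)) * (s * s + (1 + s) + (1 + s)) := by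
            rw [hsg, add_assoc, hxx, add_zero]; noncomm_ring
        _ = T (g u) * T (g (σ u)) * (1 + s) := by
            rw [show s * s + (1 + s) + (1 + s) = (1 + s + s * s) + (1 + s) by abel, hs, zero_add]
    rw [e2] at h0
    set G := T (g u)
    set H := T (g (σ u))
    have e3 : (G + G * H) * s = 1 + G * H := by
      calc (G + G * H) * s = (G + G * H) * s + (1 + G * s + G * H * (1 + s)) := by rw [h0, add_zero]
        _ = 1 + G * H + ((G * s + G * H * s) + (G * s + G * H * s)) := by noncomm_ring
        _ = 1 + G * H := by rw [hxx, add_zero]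
    calc (G * H + 1) * s = (G + G * H) * s * s := by rw [e3, add_comm (G * H) 1]
      _ = (G + G * H) * (s * s) := mul_assoc _ _ _
      _ = (G + G * H) + (1 + G * H) := by rw [hss, mul_add, mul_one, e3]
      _ = G + 1 + (G * H + G * H) := by abel
      _ = G + 1 := by rw [hxx, add_zero]
  have hσinv : ∀ x, T (σ x⁻¹) = T (σ x)⁻¹ := fun x => by rw [map_inv]
  have hsum : ∀ u, T (g u) + T (g (σ u))⁻¹ = T (g (σ u)) + T (g u)⁻¹ := by
    intro u
    refine add_inv_eq h2 (hmul _).1 (hmul _).2 hunit ?_ (hmul _).1 (hE u)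
    rw [hcomp, hσinv]
    simp only [hg, map_mul, map_inv]
  have hpm : ∀ x : R, T x ^ n = 1 := fun x => by
    rw [← map_pow, ← hn, pow_card_eq_one', map_one]
  -- the images commute
  have hcomm : ∀ u, Commute (T (g u)) (T (g (σ u))) := by
    intro u
    set x := g u
    set y := g (σ u)
    set c := y * x * y⁻¹ * x⁻¹
    have hc : c ∈ D := by
      have := Subgroup.commutator_mem_commutator (Subgroup.mem_top y) (Subgroup.mem_top x)
      rwa [← commutator_def] at this
    have h1 : T c = 1 := by
      refine comm_eq_one h2 (G := T x) (G' := T x⁻¹) (H := T y) (H' := T y⁻¹) (C' := T c⁻¹)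
        (hmul x).1 (hmul x).2 (hmul y).2 (hmul y).1 (hmul c).2 (hmul c).1 (hgD u c hc).symm
        (hgD _ c hc).symm ?_ ?_ (hsum u) hodd (hpm c)
      · rw [← map_mul, ← map_mul, ← map_mul]; congr 1; simp only [c]; group
      · rw [← map_mul, ← map_mul, ← map_mul]; congr 1; simp only [c]; group
    show T x * T y = T y * T x
    calc T x * T y = T c * (T x * T y) := by rw [h1, one_mul]
      _ = T y * T x := by rw [← map_mul, ← map_mul, ← map_mul]; congr 1; simp only [c]; group
  intro r
  -- `x y z = 1`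
  set x := g r with hx
  set y := g (σ r) with hy
  set z := g (σ (σ r)) with hz
  have hs3 : s * s * s = 1 := by
    rw [mul_assoc, hss, hs1]
  have hσ3 : T (σ (σ (σ r))) = T r := by
    calc T (σ (σ (σ r))) = T (σ (σ (σ r))) * (s * s * s) := by rw [hs3, mul_one]
      _ = T (σ (σ (σ r))) * s * (s * s) := by noncomm_ring
      _ = s * T (σ (σ r)) * (s * s) := by rw [hcomp]
      _ = s * (T (σ (σ r)) * s) * s := by noncomm_ring
      _ = s * (s * T (σ r)) * s := by rw [← hcomp (σ r)]
      _ = s * s * (T (σ r) * s) := by noncomm_ring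
      _ = s * s * s * T r := by rw [← hcomp r]; noncomm_ring
      _ = T r := by rw [hs3, one_mul]
  have hxyz : T x * T y * T z = 1 := by
    rw [← map_mul, ← map_mul, show x * y * z = r⁻¹ * σ (σ (σ r)) by simp only [hx, hy, hz, hg]; group,
      map_mul, hσ3, (hmul r).2]
  have cxy : Commute (T x) (T y) := hcomm r
  have cyz : Commute (T y) (T z) := hcomm (σ r)
  have cxz : Commute (T x) (T z) := by
    have e : T z = T y⁻¹ * T x⁻¹ := by
      calc T z = T y⁻¹ * T x⁻¹ * (T x * T y * T z) := by
            rw [← mul_assoc, ← mul_assoc, mul_assoc (T y⁻¹) (T x⁻¹) (T x), (hmul x).2, mul_one,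
              (hmul y).2, one_mul]
        _ = _ := by rw [hxyz, mul_one]
    rw [e]
    refine Commute.mul_right ?_ ?_
    · calc T x * T y⁻¹ = T y⁻¹ * (T y * T x) * T y⁻¹ := by
            rw [← mul_assoc, (hmul y).2, one_mul]
        _ = T y⁻¹ * (T x * T y) * T y⁻¹ := by rw [cxy.eq]
        _ = T y⁻¹ * T x := by rw [mul_assoc, mul_assoc, (hmul y).1, mul_one]
    · exact ((hmul x).1.trans (hmul x).2.symm)
  let S : Subring A := Subring.closure {T x, T y, T z}
  let instS : CommRing S := Subring.closureCommRingOfComm fun a ha b hb => by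
    simp only [Set.mem_insert_iff, Set.mem_singleton_iff] at ha hb
    rcases ha with rfl | rfl | rfl <;> rcases hb with rfl | rfl | rfl
    all_goals first | rfl | exact cxy | exact cxy.symm | exact cyz | exact cyz.symm | exact cxz | exact cxz.symm
  have h2S : (2 : S) = 0 := by
    rw [show (2 : S) = 1 + 1 by norm_num]
    exact Subtype.ext (hxx 1)
  set gx : S := ⟨T x, Subring.subset_closure (by simp)⟩ with hgx
  set gy : S := ⟨T y, Subring.subset_closure (by simp)⟩ with hgy
  set gz : S := ⟨T z, Subring.subset_closure (by simp)⟩ with hgz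
  have hrel : ∀ u, (T (g u) + T (g (σ u))) * (T (g u) * T (g (σ u)) + 1) = 0 := by
    intro u
    set G := T (g u)
    set H := T (g (σ u))
    have e := hsum u
    have c : Commute G H := hcomm u
    calc (G + H) * (G * H + 1) = G * G * H + H * G * H + G + H := by noncomm_ring
      _ = (G * (G + T (g (σ u))⁻¹) * H) + (H + T (g u)⁻¹) * G * H := by
          rw [mul_add, add_mul, add_mul, add_mul, mul_assoc G (T (g (σ u))⁻¹) H, (hmul _).2,
            mul_one, (hmul (g u)).2, one_mul]
          abel
      _ = 0 := by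
          rw [e, ← (show Commute G (H + T (g u)⁻¹) from c.add_right
            ((hmul (g u)).1.trans (hmul (g u)).2.symm)).eq, hxx]
  have hinvz : T (g r) * T (g (σ r)) + 1 = T z⁻¹ * (1 + T z) := by
    have e : T x * T y = T z⁻¹ := by
      calc T x * T y = T x * T y * (T z * T z⁻¹) := by rw [(hmul z).1, mul_one]
        _ = T z⁻¹ := by rw [← mul_assoc, hxyz, one_mul]
    rw [e, mul_add, mul_one, (hmul z).2]
  have hinvx : T (g (σ r)) * T (g (σ (σ r))) + 1 = T x⁻¹ * (1 + T x) := by
    have e : T y * T z = T x⁻¹ := by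
      calc T y * T z = T x⁻¹ * (T x * T y * T z) := by
            rw [← mul_assoc, ← mul_assoc, (hmul x).2, one_mul]
        _ = T x⁻¹ := by rw [hxyz, mul_one]
    rw [e, mul_add, mul_one, (hmul x).2]
  have h1' : (T x + T y) * (T z + 1) = 0 := by
    have e := hrel r
    rw [hinvz] at e
    calc (T x + T y) * (T z + 1) = (T x + T y) * (T z⁻¹ * T z * (T z + 1)) := by
          rw [(hmul z).2, one_mul]
      _ = (T x + T y) * (T z⁻¹ * (1 + T z)) * T z := by noncomm_ring
      _ = 0 := by rw [e, zero_mul]
  have h3' : (T y + T z) * (T x + 1) = 0 := by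
    have e := hrel (σ r)
    rw [hinvx] at e
    calc (T y + T z) * (T x + 1) = (T y + T z) * (T x⁻¹ * T x * (T x + 1)) := by
          rw [(hmul x).2, one_mul]
      _ = (T y + T z) * (T x⁻¹ * (1 + T x)) * T x := by noncomm_ring
      _ = 0 := by rw [e, zero_mul]
  have hfin : gx = 1 := eq_one_of_triple h2S (H := gy) (K := gz) (Subtype.ext hxyz)
    (Subtype.ext h1') (Subtype.ext h3') hodd h3 (Subtype.ext (by push_cast; exact hpm x))
  have hTx : T x = 1 := congrArg Subtype.val hfin
  calc T (σ r) = T r * T x := by rw [← map_mul, hx, hg]; congr 1; group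
    _ = T r := by rw [hTx, mul_one]

end CfsgLib.Recog.FpfThree
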