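import Cfsg.Agent.Lib.Recog.FpfThree.Basic
import Cfsg.Agent.Lib.Recog.FpfThree.Operator
import Cfsg.Agent.Lib.Solvable.HallHigman
import Cfsg.Agent.Lib.Invol.HigmanTwo
import Cfsg.Prelude.Def_Local

/-!
Solvable groups: `G = O_{2',2}(G) C(σ)`.
-/

set_option autoImplicit false
set_option linter.unusedSectionVars false
set_option maxHeartbeats 1000000

namespace CfsgLib.Recog.FpfThree

open CfsgLib.Solvable

universe u v

/-- On a 2-group, a fixed-point-free `sQ` of order three centralises what it normalises. -/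
theorem act_fixed : ∀ (n : ℕ) {R : Type u} [Group R] [Finite R] {Q : Type v} [Group Q] [Finite Q],
    Nat.card Q = n → IsPGroup 2 Q → ∀ (act : R →* MulAut Q) (sQ : MulAut Q),
    (∀ q, sQ (sQ (sQ q)) = q) → (∀ q, sQ q = q → q = 1) → ∀ σ : MulAut R, Group.IsSolvable R →
    Odd (Nat.card R) → ¬ 3 ∣ Nat.card R → (∀ r q, sQ (act r q) = act (σ r) (sQ q)) →
    ∀ r, act (σ r) = act r := by
  intro n
  induction n using Nat.strong_induction_on with
  | _ n ih =>
  intro R _ _ Q _ _ hn hQ act sQ hs3 hsf σ hsolv hodd h3 hcomp r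
  rcases subsingleton_or_nontrivial Q with hQs | hQn
  · exact MulEquiv.ext fun q => Subsingleton.elim _ _
  have : Fact (Nat.Prime 2) := ⟨Nat.prime_two⟩
  -- the involutions of the centre
  let V : Subgroup Q :=
    { carrier := {q | (∀ x, x * q = q * x) ∧ q * q = 1}
      one_mem' := ⟨fun x => by rw [mul_one, one_mul], one_mul 1⟩
      mul_mem' := fun {a b} ha hb => ⟨fun x => by rw [← mul_assoc, ha.1, mul_assoc, hb.1, mul_assoc],
        by rw [mul_assoc, ← mul_assoc b, ha.1 b, mul_assoc a b, hb.2, mul_one, ha.2]⟩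
      inv_mem' := fun {a} ha => by rw [inv_eq_of_mul_eq_one_right ha.2]; exact ha }
  have hVmem : ∀ q, q ∈ V ↔ (∀ x, x * q = q * x) ∧ q * q = 1 := fun q => Iff.rfl
  have : V.Normal := ⟨fun q hq x => by rwa [hq.1 x, mul_inv_cancel_right]⟩
  have hVinv : ∀ (φ : MulAut Q), ∀ q ∈ V, φ q ∈ V := fun φ q hq => by
    refine ⟨fun x => ?_, by rw [← map_mul, hq.2, map_one]⟩
    obtain ⟨y, rfl⟩ := φ.surjective x
    rw [← map_mul, hq.1 y, map_mul]
  have hVmap : ∀ φ : MulAut Q, V.map (φ : Q →* Q) = V := fun φ => le_antisymm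
    (Subgroup.map_le_iff_le_comap.2 fun q hq => hVinv φ q hq)
    fun q hq => ⟨φ.symm q, hVinv φ.symm q hq, φ.apply_symm_apply q⟩
  have hVne : 1 < Nat.card V := by
    have := hQ.center_nontrivial
    obtain ⟨k, hk, hc⟩ := (hQ.to_subgroup (Subgroup.center Q)).nontrivial_iff_card.1 this
    obtain ⟨z, hz⟩ := exists_prime_orderOf_dvd_card' 2
      (hc ▸ dvd_pow_self 2 hk.ne' : 2 ∣ Nat.card (Subgroup.center Q))
    have hzV : (z : Q) ∈ V := ⟨fun x => Subgroup.mem_center_iff.1 z.2 x, by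
      rw [← pow_two, ← hz, ← Subgroup.orderOf_coe, pow_orderOf_eq_one]⟩
    rw [Finite.one_lt_card_iff_nontrivial]
    refine ⟨⟨z, hzV⟩, 1, fun e => ?_⟩
    have e' : (z : Q) = 1 := congrArg Subtype.val e
    rw [← Subgroup.orderOf_coe, e', orderOf_one] at hz
    omega
  -- on `V`
  let instV : CommGroup V :=
    { (inferInstance : Group V) with mul_comm := fun a b => Subtype.ext (b.2.1 a) }
  let toE : MulAut Q → (AddMonoid.End (Additive V)) := fun φ =>
    ({ toFun := fun x => Additive.ofMul (⟨φ (Additive.toMul x : V), hVinv φ _ (Additive.toMul x).2⟩ : V)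
       map_zero' := congrArg Additive.ofMul (Subtype.ext (map_one φ))
       map_add' := fun x y => congrArg Additive.ofMul (Subtype.ext (map_mul φ _ _)) } :
      Additive V →+ Additive V)
  let T : R →* (AddMonoid.End (Additive V)) :=
    { toFun := fun x => toE (act x)
      map_one' := AddMonoidHom.ext fun x => congrArg Additive.ofMul (Subtype.ext (by
        show act 1 ((Additive.toMul x : V) : Q) = _
        rw [map_one]; rfl))
      map_mul' := fun a b => AddMonoidHom.ext fun x => congrArg Additive.ofMul (Subtype.ext (by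
        show act (a * b) ((Additive.toMul x : V) : Q) = _
        rw [map_mul]; rfl)) }
  have h2 : (2 : (AddMonoid.End (Additive V))) = 0 := by
    rw [show (2 : (AddMonoid.End (Additive V))) = 1 + 1 by norm_num]
    exact AddMonoidHom.ext fun x => congrArg Additive.ofMul (Subtype.ext (Additive.toMul x).2.2)
  have hnorm : (1 : (AddMonoid.End (Additive V))) + toE sQ + toE sQ * toE sQ = 0 :=
    AddMonoidHom.ext fun x => congrArg Additive.ofMul (Subtype.ext
      (CfsgLib.Invol.fpf_three_norm sQ hs3 hsf ((Additive.toMul x : V) : Q)))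
  have hTc : ∀ a, toE sQ * T a = T (σ a) * toE sQ := fun a =>
    AddMonoidHom.ext fun x => congrArg Additive.ofMul (Subtype.ext (hcomp a _))
  have hVfix : ∀ q ∈ V, act (σ r) q = act r q := fun q hq =>
    congrArg (fun f : (AddMonoid.End (Additive V)) => ((Additive.toMul (f (Additive.ofMul (⟨q, hq⟩ : V))) : V) : Q))
      (operator_fixed _ rfl h2 T (toE sQ) hnorm σ hsolv hodd h3 hTc r)
  -- on `Q/V`
  let quotHom : MulAut Q →* MulAut (Q ⧸ V) :=
    { toFun := fun φ => QuotientGroup.congr V V φ (hVmap φ)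
      map_one' := MulEquiv.ext fun x => by
        obtain ⟨x, rfl⟩ := QuotientGroup.mk_surjective x; rfl
      map_mul' := fun a b => MulEquiv.ext fun x => by
        obtain ⟨x, rfl⟩ := QuotientGroup.mk_surjective x; rfl }
  have hqh : ∀ (φ : MulAut Q) (q : Q), quotHom φ (q : Q ⧸ V) = ((φ q : Q) : Q ⧸ V) := fun _ _ => rfl
  have hsQ : Hyp sQ := by
    refine ⟨hs3, fun hd => ?_, fun x hx _ => hsf x hx⟩
    obtain ⟨k, hk⟩ := hQ.exists_card_eq
    rw [hk] at hd
    have := Nat.prime_three.dvd_of_dvd_pow hd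
    omega
  have hsq := hsQ.quotient V (quotHom sQ) (hqh sQ)
  have hlt : Nat.card (Q ⧸ V) < n := by
    rw [← hn, Subgroup.card_eq_card_quotient_mul_card_subgroup V]
    exact lt_mul_of_one_lt_right Nat.card_pos hVne
  have hquot := ih _ hlt rfl (hQ.to_quotient V) (quotHom.comp act) (quotHom sQ) hsq.three
    (fun x hx => by
      obtain ⟨k, hk⟩ := (hQ.to_quotient V) x
      exact hsq.fixed_two_eq_one hx hk) σ hsolv hodd h3
    (fun a x => by
      obtain ⟨q, rfl⟩ := QuotientGroup.mk_surjective x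
      show quotHom sQ (quotHom (act a) (q : Q ⧸ V)) = quotHom (act (σ a)) (quotHom sQ (q : Q ⧸ V))
      rw [hqh, hqh, hqh, hqh, hcomp]) r
  set g := r⁻¹ * σ r with hg
  have hgV : ∀ q ∈ V, act g q = q := fun q hq => by
    rw [hg, map_mul, MulAut.mul_apply, hVfix q hq, ← MulAut.mul_apply, ← map_mul, inv_mul_cancel,
      map_one, MulAut.one_apply]
  have hgq : ∀ q, act g q = q := by
    intro q
    have h0 : quotHom (act g) (q : Q ⧸ V) = (q : Q ⧸ V) := by
      have h1 : quotHom (act (σ r)) = quotHom (act r) := hquot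
      rw [hg, map_mul, map_mul, h1, ← map_mul, ← map_mul, inv_mul_cancel, map_one, map_one,
        MulAut.one_apply]
    rw [hqh, eq_comm, QuotientGroup.eq] at h0
    set v := q⁻¹ * act g q
    have hstep : ∀ j : ℕ, act (g ^ j) q = q * v ^ j := by
      intro j
      induction j with
      | zero => rw [pow_zero, map_one, MulAut.one_apply, pow_zero, mul_one]
      | succ j hj =>
        rw [pow_succ', map_mul, MulAut.mul_apply, hj, map_mul, map_pow, hgV v h0, pow_succ',
          ← mul_assoc]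
        congr 1
        rw [mul_inv_cancel_left]
    have hv := hstep (Nat.card R)
    rw [pow_card_eq_one', map_one, MulAut.one_apply, left_eq_mul] at hv
    obtain ⟨j, hj⟩ := hodd
    rw [hj, pow_succ, pow_mul, pow_two, h0.2, one_pow, one_mul] at hv
    exact (inv_mul_eq_one.1 hv).symm
  have hσr : σ r = r * g := by rw [hg, mul_inv_cancel_left]
  refine MulEquiv.ext fun q => ?_
  rw [hσr, map_mul, MulAut.mul_apply, hgq]

variable {G : Type u} [Group G] [Finite G] {σ : MulAut G}

/-- An invariant odd Sylow subgroup is fixed pointwise when `O(G) = 1`. -/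
theorem Hyp.sylow_fixed (h : Hyp σ) [Group.IsSolvable G] (hO : Cfsg.pPrimeCore 2 G = ⊥) {p : ℕ}
    [hp : Fact p.Prime] (hp2 : p ≠ 2) (P : Sylow p G) (hP : Inv σ (P : Subgroup G)) :
    ∀ x ∈ (P : Subgroup G), σ x = x := by
  intro x hx
  have : Fact (Nat.Prime 2) := ⟨Nat.prime_two⟩
  set Q := Cfsg.pCore 2 G
  have : Q.Normal := pCore_normal 2 G
  have hQi : Inv σ Q := inv_of_characteristic _ (hN := pCore_characteristic 2 G)
  let act : (P : Subgroup G) →* MulAut Q := MulAut.conjNormal.comp (P : Subgroup G).subtype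
  obtain ⟨k, hk⟩ := P.2.exists_card_eq
  have hact := act_fixed _ rfl (pCore_isPGroup (G := G) 2) act (resAut h hQi)
    (h.restrict hQi).three (fun q hq => h.fpf_of_two (pCore_isPGroup 2) hQi q hq) (resAut h hP)
    inferInstance (by rw [hk]; exact (hp.out.odd_of_ne_two hp2).pow)
    (fun hd => h.cop (hd.trans (P : Subgroup G).card_subgroup_dvd_card))
    (fun a q => Subtype.ext (by simp [act, MulAut.conjNormal_apply, map_mul, map_inv]))
    ⟨x, hx⟩
  have hmem : x⁻¹ * σ x ∈ Q := by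
    refine centralizer_pCore_le 2 hO (Subgroup.mem_centralizer_iff.2 fun q hq => ?_)
    have e := congrArg (fun φ : MulAut Q => ((φ ⟨q, hq⟩ : Q) : G)) hact
    simp only [act, MonoidHom.comp_apply, Subgroup.subtype_apply, resAut_coe,
      MulAut.conjNormal_apply] at e
    calc q * (x⁻¹ * σ x) = x⁻¹ * (x * q * x⁻¹) * σ x := by group
      _ = x⁻¹ * (σ x * q * (σ x)⁻¹) * σ x := by rw [e]
      _ = x⁻¹ * σ x * q := by group
  have hmemP : x⁻¹ * σ x ∈ (P : Subgroup G) := mul_mem (inv_mem hx) (hP x hx)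
  have hdis := IsPGroup.disjoint_of_ne p 2 hp2 _ _ P.2 (pCore_isPGroup (G := G) 2)
  exact (inv_mul_eq_one.1 (Subgroup.disjoint_def.1 hdis hmemP hmem)).symm

/-- The automorphism is trivial modulo `O₂`. -/
theorem Hyp.trivial_mod (h : Hyp σ) [Group.IsSolvable G] (hO : Cfsg.pPrimeCore 2 G = ⊥) (x : G) :
    x⁻¹ * σ x ∈ Cfsg.pCore 2 G := by
  have : Fact (Nat.Prime 2) := ⟨Nat.prime_two⟩
  set Q := Cfsg.pCore 2 G
  have : Q.Normal := pCore_normal 2 G
  have hQi : Inv σ Q := inv_of_characteristic _ (hN := pCore_characteristic 2 G)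
  obtain ⟨τ, hτ, hτh⟩ := h.exists_quotAut Q hQi
  have hfix : ∀ (p : ℕ) [Fact p.Prime], ∀ y ∈ Cfsg.pCore p (G ⧸ Q), τ y = y := by
    intro p hp y hy
    by_cases hp2 : p = 2
    · subst hp2
      rw [pCore_quotient_eq_bot, Subgroup.mem_bot] at hy
      rw [hy, map_one]
    · obtain ⟨P, hP⟩ := h.exists_sylow p
      obtain ⟨z, hz, rfl⟩ := Subgroup.mem_map.1
        (pCore_le_sylow (P.mapSurjective (QuotientGroup.mk'_surjective Q)) hy)
      rw [QuotientGroup.mk'_apply, hτ, h.sylow_fixed hO hp2 P hP z hz]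
  set F := Cfsg.fittingSubgroup (G ⧸ Q)
  have hFn : F.Normal := fittingSubgroup_normal _
  have hFfix : ∀ y ∈ F, τ y = y := by
    have : F ≤ (τ : (G ⧸ Q) →* (G ⧸ Q)).eqLocus (MonoidHom.id _) := by
      rw [show F = _ from fittingSubgroup_eq_iSup_pCore]
      refine iSup_le fun q y hy => ?_
      have : Fact (q : ℕ).Prime := ⟨q.2⟩
      exact hfix q y hy
    exact fun y hy => this hy
  rw [← QuotientGroup.eq, ← hτ]
  set y : G ⧸ Q := (x : G ⧸ Q) with hy
  set d := y⁻¹ * τ y with hd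
  have hdF : d ∈ F := by
    refine centralizer_fittingSubgroup_le (Subgroup.mem_centralizer_iff.2 fun k hk => ?_)
    have e := hFfix _ (hFn.conj_mem k hk y)
    rw [map_mul, map_mul, hFfix k hk, map_inv] at e
    calc k * d = y⁻¹ * (y * k * y⁻¹) * τ y := by rw [hd]; group
      _ = y⁻¹ * (τ y * k * (τ y)⁻¹) * τ y := by rw [e]
      _ = d * k := by rw [hd]; group
  have hy1 : τ y = y * d := by rw [hd, mul_inv_cancel_left]
  have h3d : d ^ 3 = 1 := by
    have hs : ∀ z, τ (y * z) = y * (d * τ z) := fun z => by rw [map_mul, hy1, mul_assoc]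
    have e := hτh.three y
    rw [hy1, hs, hFfix d hdF, hs, map_mul, hFfix d hdF] at e
    rw [pow_succ, pow_two]
    exact (mul_assoc d d d).trans (mul_eq_left.1 e)
  have hd1 : d = 1 := by
    have hc : Nat.Coprime 3 (Nat.card (G ⧸ Q)) := Nat.prime_three.coprime_iff_not_dvd.2 hτh.cop
    exact orderOf_eq_one_iff.1 (Nat.eq_one_of_dvd_coprimes hc (orderOf_dvd_of_pow_eq_one h3d)
      (orderOf_dvd_natCard d))
  exact (inv_mul_eq_one.1 hd1)

/-- **The solvable case.** -/
theorem Hyp.structure_of_solvable (h : Hyp σ) [Group.IsSolvable G] :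
    ¬ 2 ∣ (Cfsg.pPrimePCore 2 G).index ∧
      ∀ x : G, ∃ c, σ c = c ∧ x⁻¹ * c ∈ Cfsg.pPrimePCore 2 G := by
  have : Fact (Nat.Prime 2) := ⟨Nat.prime_two⟩
  have : (Cfsg.pPrimeCore 2 G).Normal := pPrimeCore_normal 2 G
  set O := Cfsg.pPrimeCore 2 G
  have hOi : Inv σ O := inv_of_characteristic _ (hN := pPrimeCore_characteristic 2 G)
  obtain ⟨τ, hτ, hτh⟩ := h.exists_quotAut O hOi
  have hK : Cfsg.pPrimeCore 2 (G ⧸ O) = ⊥ := pPrimeCore_quotient_eq_bot 2
  have htriv := hτh.trivial_mod hK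
  set Q := Cfsg.pCore 2 (G ⧸ O)
  have : Q.Normal := pCore_normal 2 _
  have hidx : ¬ 2 ∣ Q.index := by
    intro hd
    rw [Subgroup.index_eq_card] at hd
    obtain ⟨z, hz⟩ := exists_prime_orderOf_dvd_card' 2 hd
    obtain ⟨θ, hθ, hθh⟩ := hτh.exists_quotAut Q
      (inv_of_characteristic _ (hN := pCore_characteristic 2 _))
    obtain ⟨w, rfl⟩ := QuotientGroup.mk_surjective z
    have hfix : θ ((w : G ⧸ O) : (G ⧸ O) ⧸ Q) = (w : (G ⧸ O) ⧸ Q) := by
      rw [hθ, eq_comm, QuotientGroup.eq]; exact htriv w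
    have h1 := hθh.invol _ hfix (by rw [← pow_two, ← hz, pow_orderOf_eq_one])
    rw [h1, orderOf_one] at hz
    omega
  refine ⟨?_, fun x => h.exists_fixed_rep _ ?_ ?_⟩
  · show ¬ 2 ∣ (Q.comap (QuotientGroup.mk' O)).index
    rwa [Subgroup.index_comap_of_surjective _ (QuotientGroup.mk'_surjective O)]
  · intro y hy
    show QuotientGroup.mk' O (σ y) ∈ Q
    rw [QuotientGroup.mk'_apply, ← hτ]
    exact inv_of_characteristic _ (hN := pCore_characteristic 2 _) _ hy
  · show QuotientGroup.mk' O (x⁻¹ * σ x) ∈ Q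
    rw [map_mul, map_inv, QuotientGroup.mk'_apply, QuotientGroup.mk'_apply, ← hτ]
    exact htriv _

end CfsgLib.Recog.FpfThree
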